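import Groth.Agent.ZeroSchemeLib.Basic
import Groth.Agent.CartDiv.DimOne
import Groth.Agent.VarDim.Scheme
import Groth.Agent.TopDimLib.Basic
import Groth.Agent.HilbPolyX.Section
import Groth.Agent.IntProd70.Positive
import Groth.Agent.S10830

/-!
# The cokernel of a section of an invertible module on a proper integral scheme

A nonzero section which is not an isomorphism is injective and its cokernel is supported in
dimension exactly one less.
-/

set_option autoImplicit false
set_option linter.style.haveILetI false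

universe u

open CategoryTheory CategoryTheory.Limits AlgebraicGeometry TopologicalSpace Opposite
open Groth.Agent.QCoh Groth.Agent.Props.GenLocus Groth.Agent.PullStalk.Sky Groth.Agent.PullStalk.Exact

noncomputable section

namespace Groth.Agent.AbVarTrace.ZeroLocus

variable {X : Scheme.{u}} {M : X.Modules} (s : Coh.structureModule X ⟶ M)

theorem genLocus_ne_top (hs : ¬ IsIso s) : CohB1.genLocus M s ≠ ⊤ := by
  intro h
  refine hs ?_
  have hg := isGen_genLocus s
  rw [h] at hg
  rw [Scheme.Modules.Hom.isIso_iff_isIso_app]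
  intro V
  refine (ConcreteCategory.isIso_iff_bijective _).mpr ?_
  rw [show ⇑(ConcreteCategory.hom (s.app V)) = fun a : Γ(X, V) => a • res M (le_top : V ≤ ⊤) (sec s ⊤) from
    funext fun a => by rw [sec_res]; exact app_eq s V a]
  exact hg V le_top

theorem eq_zero_of_genLocus_eq_bot [IsIntegral X] (hM : PicF.IsInvertible M)
    (h : CohB1.genLocus M s = ⊥) : s = 0 := by
  have hsec : ∀ V : X.Opens, sec s V = 0 := by
    intro V
    refine eq_of_locally_eq M (U := fun x : X => (exists_isGen hM x).choose ⊓ V) (fun _ => inf_le_right)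
      (fun x hx => Opens.mem_iSup.mpr ⟨x, (exists_isGen hM x).choose_spec.choose_spec.1, hx⟩) _ 0 fun x => ?_
    obtain ⟨e, -, he⟩ := (exists_isGen hM x).choose_spec
    set U := (exists_isGen hM x).choose ⊓ V
    have he' := he.restrict (inf_le_left : U ≤ _)
    obtain ⟨f, hf, -⟩ := he'.exists_eq le_rfl (sec s U)
    rw [res_self] at hf
    have hbot : X.basicOpen f = ⊥ := by rw [← genLocus_inf he' s hf, h, bot_inf_eq]
    rw [AlgebraicGeometry.basicOpen_eq_bot_iff] at hbot
    rw [sec_res, hf, hbot, zero_smul]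
    exact (map_zero _).symm
  refine Scheme.Modules.hom_ext _ _ fun V => ?_
  refine AddCommGrpCat.ext fun a => ?_
  exact (app_eq s V a).trans (by rw [hsec]; exact smul_zero (M := Γ(X, V)) a)

theorem mono_of_ne_zero [IsIntegral X] (hM : PicF.IsInvertible M) (hs : s ≠ 0) : Mono s := by
  have h : (CohB1.genLocus M s : Set X).Nonempty := Set.nonempty_iff_ne_empty.mpr fun h =>
    hs (eq_zero_of_genLocus_eq_bot s hM (Opens.ext h))
  refine CohAff.mono_of_app_injective s fun U => ?_
  refine (injective_iff_map_eq_zero (s.app U).hom).mpr fun (a : Γ(X, U)) ha => ?_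
  by_cases hU : (U : Set X).Nonempty
  · obtain ⟨y, hy⟩ := nonempty_preirreducible_inter U.2 (CohB1.genLocus M s).2 hU h
    have hne : Nonempty ((U ⊓ CohB1.genLocus M s : X.Opens) : Scheme.{u}) := ⟨⟨y, hy⟩⟩
    have hg := (isGen_genLocus s).restrict (inf_le_right : U ⊓ CohB1.genLocus M s ≤ _)
    refine @map_injective_of_isIntegral X _ _ _ (homOfLE (inf_le_left : U ⊓ CohB1.genLocus M s ≤ U))
      hne _ _ (Eq.trans ?_ (map_zero _).symm)
    refine hg.injective le_rfl ?_
    rw [res_self, sec_res, zero_smul, ← app_eq]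
    exact (app_res s _ a).trans ((congrArg _ ha).trans (map_zero _))
  · have : U = ⊥ := Opens.ext (Set.not_nonempty_iff_eq_empty.mp hU)
    subst this
    have : Subsingleton Γ(X, ⊥) := inferInstance
    exact this.elim _ _

theorem support_cokernel [Mono s] (hM : PicF.IsInvertible M) :
    CohB1.support (cokernel s) = ((CohB1.genLocus M s : X.Opens) : Set X)ᶜ := by
  ext y
  refine ⟨fun hy hg => ?_, fun hy hsub => ?_⟩
  · exact CohDev.not_mem_support_cokernel s (HilbPolyX.stalk_sec_bijective s hg).2 hy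
  · have hS : (ShortComplex.mk s (cokernel.π s) (cokernel.condition s)).ShortExact :=
      { exact := ShortComplex.exact_of_g_is_cokernel _ (cokernelIsCokernel s)
        mono_f := inferInstanceAs (Mono s)
        epi_g := inferInstanceAs (Epi (cokernel.π s)) }
    have hex := (stalk_exact hS y).2.1
    let R := X.presheaf.stalk y
    obtain ⟨eB⟩ := EulerChar.stalk_ofRank (ProjTwist.isFinLocFreeOfRank_one hM) y
    haveI : Module.Finite R (M.presheaf.stalk y) := Module.Finite.equiv eB
    have htop : (⊤ : Submodule R (M.presheaf.stalk y)) ≤ IsLocalRing.maximalIdeal R • ⊤ := by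
      intro b _
      obtain ⟨a, rfl⟩ := (hex b).mp (@Subsingleton.elim _ hsub _ _)
      exact HilbPolyX.stalk_sec_mem s hM hy a
    have hbot := Submodule.eq_bot_of_le_smul_of_le_jacobson_bot (IsLocalRing.maximalIdeal R) _
      Module.Finite.fg_top htop (IsLocalRing.maximalIdeal_le_jacobson _)
    have : Subsingleton (M.presheaf.stalk y) := ⟨fun a b => by
      have ha : a ∈ (⊥ : Submodule R (M.presheaf.stalk y)) := hbot ▸ Submodule.mem_top
      have hb : b ∈ (⊥ : Submodule R (M.presheaf.stalk y)) := hbot ▸ Submodule.mem_top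
      rw [(Submodule.mem_bot R).mp ha, (Submodule.mem_bot R).mp hb]⟩
    exact not_subsingleton (Fin 1 → R) eB.toEquiv.subsingleton

variable (k : Type u) [Field k] [X.Over (Spec (CommRingCat.of k))]
  [IsProper (X ↘ Spec (CommRingCat.of k))] [IsIntegral X]

include k

theorem dim_compl (hM : PicF.IsInvertible M) (hs : s ≠ 0) (hs' : ¬ IsIso s) {e : ℕ}
    (hX : topologicalKrullDim X = ((e + 1 : ℕ) : WithBot ℕ∞)) :
    topologicalKrullDim ↥(((CohB1.genLocus M s : X.Opens) : Set X)ᶜ) = (e : WithBot ℕ∞) := by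
  haveI := EulerChar.isNoetherian k (X := X)
  set D : Set X := ((CohB1.genLocus M s : X.Opens) : Set X)ᶜ with hDdef
  have hDc : IsClosed D := (CohB1.genLocus M s).isOpen.isClosed_compl
  have hne : D.Nonempty := by
    rw [Set.nonempty_compl]
    exact fun h => genLocus_ne_top s hs' (Opens.ext h)
  have hproper : D ≠ Set.univ := by
    intro h
    refine hs (eq_zero_of_genLocus_eq_bot s hM (Opens.ext ?_))
    exact Set.compl_univ_iff.mp h
  have hlt := S10830.result X (by rw [hX]; exact fun h => ENat.coe_ne_top (e + 1) (WithBot.coe_eq_coe.mp h)) D hDc hproper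
  rw [hX] at hlt
  have hub : ∀ z : X, VarDim.dimPt k X z ≤ e + 1 := fun z => by
    have h := le_iSup (fun x : X => (VarDim.dimPt k X x : WithBot ℕ∞)) z
    rw [← VarDim.topologicalKrullDim_eq_iSup k, hX] at h
    exact_mod_cast h
  obtain ⟨x₀, hx₀⟩ := hne
  obtain ⟨d, ⟨ξ, hξ, hdξ⟩, hmax⟩ : ∃ d, (∃ ξ ∈ D, VarDim.dimPt k X ξ = d) ∧
      ∀ z ∈ D, VarDim.dimPt k X z ≤ d := by
    classical
    obtain ⟨d, hd, hm⟩ := Finset.exists_max_image
      ((Finset.range (e + 2)).filter fun d => ∃ ξ ∈ D, VarDim.dimPt k X ξ = d) id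
      ⟨_, Finset.mem_filter.mpr ⟨Finset.mem_range.mpr (Nat.lt_succ_of_le (hub x₀)), x₀, hx₀, rfl⟩⟩
    exact ⟨d, (Finset.mem_filter.mp hd).2, fun z hz => hm _
      (Finset.mem_filter.mpr ⟨Finset.mem_range.mpr (Nat.lt_succ_of_le (hub z)), z, hz, rfl⟩)⟩
  have hgen : ∀ y ∈ D, y ⤳ ξ → y = ξ := by
    intro y hy hyξ
    by_contra hne
    have hlt' : ξ < y := lt_iff_le_not_ge.mpr ⟨hyξ, fun h => hne (hyξ.antisymm h).eq⟩
    have := VarDim.dimPt_lt_of_lt k hlt'
    have := hmax y hy
    omega
  -- the zero scheme near `ξ`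
  let Z := PicF2.zeroScheme M s
  have hloc : ∀ x : X, ∃ (U : X.affineOpens) (f : Γ(X, U.1)), x ∈ U.1 ∧ Z.ideal U = Ideal.span {f} ∧
      CohB1.genLocus M s ⊓ U.1 = X.basicOpen f := by
    intro x
    obtain ⟨W, e0, hxW, he0⟩ := exists_isGen hM x
    obtain ⟨V, hV, hxV, hle⟩ := exists_isAffineOpen_mem_and_subset (show x ∈ W from hxW)
    have he := he0.restrict (show V ≤ W from hle)
    obtain ⟨f, hf, -⟩ := he.exists_eq le_rfl (sec s V)
    rw [res_self] at hf
    exact ⟨⟨V, hV⟩, f, hxV, ZeroSchemeLib.zeroScheme_ideal_eq_span hM s ⟨V, hV⟩ he (f := f) hf,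
      genLocus_inf he s hf⟩
  have hZ : (Z.support : Set X) = D := by
    ext x
    obtain ⟨U, f, hxU, hI, hb⟩ := hloc x
    rw [SetLike.mem_coe, Scheme.IdealSheafData.mem_support_iff_of_mem (U := U) hxU, hI,
      Scheme.zeroLocus_span, Scheme.zeroLocus_singleton, ← hb]
    simp [D, hxU]
  have h1 : ringKrullDim (X.presheaf.stalk ξ) ≤ 1 :=
    CartDiv.DimOne.ringKrullDim_le_one Z (fun x _ => by
      obtain ⟨U, f, hxU, hI, -⟩ := hloc x
      exact ⟨U, hxU, f, hI⟩) ξ (hZ ▸ hξ) (fun y hy => hgen y (hZ ▸ hy))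
  rw [ringKrullDim_stalk_eq_coheight] at h1
  have hco := VarDim.le_coheight k (x := ξ) (y := genericPoint X) (genericPoint_specializes ξ)
  have hgp : VarDim.dimPt k X (genericPoint X) = e + 1 := by
    have h := VarDim.topologicalKrullDim_eq_of_irreducible (X := X) k
    rw [hX] at h
    exact_mod_cast h.symm
  have hde : e ≤ d := by
    rw [hgp, hdξ] at hco
    have h2 : ((e + 1 - d : ℕ) : ℕ∞) ≤ 1 := hco.trans (WithBot.coe_le_coe.mp h1)
    have : e + 1 - d ≤ 1 := by exact_mod_cast h2
    omega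
  refine le_antisymm (Snapper.le_of_lt_succ hlt) ?_
  obtain ⟨y, hyξ, -, hy⟩ := VarDim.exists_le_dimPt_eq_zero k ξ ⊤ trivial
  obtain ⟨-, l, hl1, hl2, hl3⟩ := VarDim.exists_ltSeries_of_le k hyξ
  let g : X → IrreducibleCloseds X := fun z => ⟨closure {z}, isIrreducible_singleton.closure, isClosed_closure⟩
  have hg : StrictMono g := fun a b hab => by
    refine lt_of_le_of_ne ?_ fun h => hab.not_ge ?_
    · show closure {a} ⊆ closure {b}
      exact (show b ⤳ a from hab.le).closure_subset
    · show a ⤳ b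
      rw [specializes_iff_mem_closure]
      exact (congrArg (fun Z : IrreducibleCloseds X => (Z : Set X)) h).ge (subset_closure rfl)
  refine le_trans ?_ (TopDimLib.length_le_of_subset (l.map g hg) (Y := D) ?_)
  · have : e ≤ l.length := by omega
    show (e : WithBot ℕ∞) ≤ (l.length : WithBot ℕ∞)
    exact_mod_cast this
  · rw [LTSeries.last_map]
    refine closure_minimal (Set.singleton_subset_iff.mpr ?_) hDc
    exact (show ξ ⤳ l.last from hl2).mem_closed hDc hξ

theorem dim_cokernel (hM : PicF.IsInvertible M) (hs : s ≠ 0) (hs' : ¬ IsIso s) {e : ℕ}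
    (hX : topologicalKrullDim X = ((e + 1 : ℕ) : WithBot ℕ∞)) :
    topologicalKrullDim ↥(CohB1.support (cokernel s)) = (e : WithBot ℕ∞) := by
  haveI := mono_of_ne_zero s hM hs
  rw [support_cokernel s hM]
  exact dim_compl s k hM hs hs' hX

end Groth.Agent.AbVarTrace.ZeroLocus
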