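import Groth.Agent.AbVarTrace.TraceLin
import Groth.Agent.AbVarTrace.ZeroLocus

/-!
# Positivity of the trace

If `pair v f 1` is, up to positive multiples, the class `pair ω₀ 1 1` of a nontrivial effective class
`ω₀`, the coefficient of `t^(2r-1)` in `deg (f + t)` is positive: it is a multiple of `(v^(r-1) · ω₀)`.
-/

set_option autoImplicit false
set_option linter.unusedSectionVars false
universe u

open CategoryTheory CategoryTheory.Limits MonoidalCategory CartesianMonoidalCategory MonObj AlgebraicGeometry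

noncomputable section

namespace Groth.Agent.AbVarTrace.TracePos

open scoped Groth.Agent.PicLaw
open PicLaw.Mumford (op)
open AbVarLib

variable {k : Type u} [Field k] [IsAlgClosed k] (A : Over (Spec (CommRingCat.of k))) [GrpObj A]
  [IsCommMonObj A] [IsProper A.hom] [GeometricallyIntegral A.hom]

open Polynomial in
/-- The Hilbert polynomial in binomial form. -/
theorem exists_hilb {X : Scheme.{u}} [X.Over (Spec (CommRingCat.of k))] [IsProper (X ↘ Spec (CommRingCat.of k))]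
    {V : X.Modules} (hV : CohB1.IsAmple V) {G : X.Modules} (hG : Coh.IsCoh G) {e : ℕ}
    (hd : topologicalKrullDim ↥(CohB1.support G) = (e : WithBot ℕ∞)) :
    ∃ P : ℚ[X], 0 < P.coeff e ∧ P.natDegree ≤ e ∧ ∀ y : ℕ,
      P.eval (y : ℚ) = (Curv2.euler k X (CohB1.tensorMod (CohB1.tensorPow V y) G) : ℚ) := by
  obtain ⟨V', hV', ⟨eV⟩⟩ := PicLaw.exists_inverse hV.1
  let I : ℕ → ℤ := fun i => Snapper.intE k (fun _ : Fin i => V') G
  let T : ℕ → ℚ[X] := fun i => C ((I i : ℚ) / (i.factorial : ℚ)) * ascPochhammer ℚ i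
  have hT : ∀ i, (T i).natDegree ≤ i := fun i =>
    (natDegree_C_mul_le _ _).trans (ascPochhammer_natDegree (S := ℚ) i).le
  refine ⟨∑ i ∈ Finset.range (e + 1), T i, ?_,
    natDegree_sum_le_of_forall_le _ _ fun i hi => (hT i).trans (Nat.le_of_lt_succ (Finset.mem_range.mp hi)), fun y => ?_⟩
  · rw [finsetSum_coeff, Finset.sum_range_succ, Finset.sum_eq_zero fun i hi =>
      coeff_eq_zero_of_natDegree_lt (lt_of_le_of_lt (hT i) (Finset.mem_range.mp hi)), zero_add]
    simp only [T, coeff_C_mul]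
    have h1 : (ascPochhammer ℚ e).coeff e = 1 := by
      have h := (monic_ascPochhammer ℚ e).coeff_natDegree
      rwa [ascPochhammer_natDegree] at h
    rw [h1, _root_.mul_one]
    have hpos : 0 < I e := IntProd70.intE_pos k (L := fun _ : Fin e => V) (fun _ => hV) (fun _ => ⟨eV⟩) hG hd
    exact div_pos (by exact_mod_cast hpos) (by exact_mod_cast e.factorial_pos)
  · rw [Snapper.euler_tensorPow_eq k hV.1 hV' eV e y hG hd.le, Int.cast_sum, eval_finsetSum]
    refine Finset.sum_congr rfl fun i _ => ?_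
    simp only [T, eval_mul, eval_C]
    rw [← ascPochhammer_eval_cast, ascPochhammer_nat_eq_ascFactorial, Nat.ascFactorial_eq_factorial_mul_choose']
    have : (i.factorial : ℚ) ≠ 0 := by exact_mod_cast i.factorial_ne_zero
    push_cast
    field_simp
    ring

/-- A symmetric ample class attached to an ample one. -/
theorem exists_symm {L : A.left.Modules} (hL : CohB1.IsAmple L) :
    ∃ (V : A.left.Modules) (hV : CohB1.IsAmple V),
      PicGrp.cls V hV.1 = PicGrp.cls L hL.1 * op (𝟙 A)⁻¹ (PicGrp.cls L hL.1) ∧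
      op (𝟙 A)⁻¹ (PicGrp.cls V hV.1) = PicGrp.cls V hV.1 := by
  have : CompactSpace A.left := hL.2.1
  have : A.left.IsSeparated := ⟨by
    rw [terminal.hom_ext (terminal.from A.left) (A.hom ≫ terminal.from _)]
    infer_instance⟩
  let i : A ≅ A := ⟨(𝟙 A)⁻¹, (𝟙 A)⁻¹, AbSch51.MulDeg.inv_id_comp A, AbSch51.MulDeg.inv_id_comp A⟩
  have : IsIso (𝟙 A)⁻¹.left := ((Over.forget _).mapIso i).isIso_hom
  have hM' : CohB1.IsAmple ((Scheme.Modules.pullback (𝟙 A)⁻¹.left).obj L) :=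
    AmpleLib.isAmple_pullback_of_isInducing _ (Scheme.Hom.isOpenEmbedding _).isInducing hL
  refine ⟨_, S2328.result A.left L _ hL hM'.1 (fun x => ?_), ?_, ?_⟩
  · obtain ⟨n, s, hx, -⟩ := hM'.2.2 x
    exact ⟨n, s, hx⟩
  · rw [PicLaw.cls_tensor hL.1 hM'.1, PicLaw.cls_pullback _ hL.1]
  · rw [PicLaw.cls_tensor hL.1 hM'.1, PicLaw.cls_pullback _ hL.1, map_mul]
    rw [show op (𝟙 A)⁻¹ (PicLaw.pl (𝟙 A)⁻¹.left (PicGrp.cls L hL.1)) = PicGrp.cls L hL.1 by
      rw [← PicLaw.Mumford.op_comp, AbSch51.MulDeg.inv_id_comp A]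
      exact PicLaw.pl_id _]
    exact _root_.mul_comm _ _

theorem isMonHom_inv : IsMonHom ((𝟙 A)⁻¹ : A ⟶ A) := by
  rw [← zpow_neg_one]
  exact GrpScheme.EtaleEndo.isMonHom_zpow A _

theorem pair_op (l : PicLoc.PicSet A.left) (h : A ⟶ A) [IsMonHom h] {V : Over (Spec (CommRingCat.of k))}
    (x y : V ⟶ A) : Defect.pair (op h l) x y = Defect.pair l (x ≫ h) (y ≫ h) := by
  simp only [Defect.pair, ← PicLaw.Mumford.op_comp, MonObj.mul_comp]

theorem pair_mul_base (l l' : PicLoc.PicSet A.left) {V : Over (Spec (CommRingCat.of k))} (x y : V ⟶ A) :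
    Defect.pair (l * l') x y = Defect.pair l x y * Defect.pair l' x y := by
  simp only [Defect.pair, map_mul, div_eq_mul_inv, mul_inv_rev]
  ac_rfl

theorem pair_symm (l : PicLoc.PicSet A.left) {V : Over (Spec (CommRingCat.of k))} (x y : V ⟶ A) :
    Defect.pair (l * op (𝟙 A)⁻¹ l) x y = Defect.pair l x y ^ 2 := by
  have := isMonHom_inv A
  rw [pair_mul_base, pair_op, sq]
  congr 1
  rw [GrpObj.comp_inv, GrpObj.comp_inv, Category.comp_id, Category.comp_id,
    show Defect.pair l x⁻¹ y⁻¹ = DegPoly.pairHom l x⁻¹ y⁻¹ from rfl, map_inv]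
  show (Defect.pair l x⁻¹ y)⁻¹ = _
  rw [Defect.pair_comm, show Defect.pair l y x⁻¹ = DegPoly.pairHom l y x⁻¹ from rfl, map_inv, _root_.inv_inv]
  exact Defect.pair_comm l y x

/-- The pairing of a class with itself. -/
theorem pair_one_one (ω₀ : PicLoc.PicSet A.left) :
    Defect.pair ω₀ (𝟙 A) (𝟙 A) = ω₀ * op (𝟙 A)⁻¹ ω₀ := by
  have h := (DegPoly.pairHom ω₀ (𝟙 A)).map_inv (𝟙 A)
  have h2 : Defect.pair ω₀ (𝟙 A) (𝟙 A)⁻¹ = (Defect.pair ω₀ (𝟙 A) (𝟙 A))⁻¹ := h
  conv_lhs => rw [← _root_.inv_inv (Defect.pair ω₀ (𝟙 A) (𝟙 A)), ← h2]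
  rw [Defect.pair, mul_inv_cancel, CubeCons.op_one, show op (𝟙 A) ω₀ = ω₀ from PicLaw.pl_id _, inv_div, div_one]

/-- Two morphisms pairing alike with all points pair alike. -/
theorem pair_adjoint' (l m : PicLoc.PicSet A.left) (α : A ⟶ A) [IsMonHom α] (n : ℕ)
    (h : ∀ x : 𝟙_ (Over (Spec (CommRingCat.of k))) ⟶ A,
      op (TraceLin.tr A x) m * l ^ n = m * op (TraceLin.tr A (x ≫ α)) (l ^ n)) (b₁ g₁ : A ⟶ A) :
    Defect.pair m b₁ g₁ = Defect.pair l b₁ (g₁ ≫ α) ^ n := by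
  have : IsIntegral A.left := GeometricallyIntegral.isIntegral_of_subsingleton A.hom
  let c := Defect.pair m (fst A A) (snd A A) / Defect.pair l (fst A A) (snd A A ≫ α) ^ n
  have hc : c = 1 := by
    refine Degenerate.eq_one_of_slices c η[A] (fun x => ?_) ?_
    · simp only [c, map_div, map_pow, Defect.op_pair, lift_fst, lift_snd, lift_snd_assoc, Category.assoc]
      rw [TraceLin.pair_const, TraceLin.pair_const, div_eq_one, div_pow, ← map_pow,
        div_eq_div_iff_mul_eq_mul, h]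
      exact _root_.mul_comm _ _
    · simp only [c, map_div, map_pow, Defect.op_pair, lift_fst, lift_snd, lift_snd_assoc, Category.id_comp]
      rw [← Hom.one_def, Defect.pair_comm, Defect.pair_one_right, Defect.pair_comm, Defect.pair_one_right,
        one_pow, div_one]
  have h2 := congrArg (op (lift b₁ g₁)) hc
  simp only [c, map_div, map_pow, map_one, Defect.op_pair, lift_fst, lift_snd, lift_snd_assoc, div_eq_one] at h2
  exact h2

open Polynomial in
set_option maxHeartbeats 1000000 in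
/-- The positivity. -/
theorem coeff_pos {r : ℕ} (hr : topologicalKrullDim A.left = (r : WithBot ℕ∞)) (hr1 : 1 ≤ r)
    {V : A.left.Modules} (hV : CohB1.IsAmple V) (hsym : op (𝟙 A)⁻¹ (PicGrp.cls V hV.1) = PicGrp.cls V hV.1)
    {M : A.left.Modules} (hM : PicF.IsInvertible M) (s : Coh.structureModule A.left ⟶ M) (hs : s ≠ 0)
    (hs' : ¬ IsIso s) (f : A ⟶ A) [IsMonHom f] (c' c : ℕ) (hc : 1 ≤ c)
    (hB : Defect.pair (PicGrp.cls V hV.1) f (𝟙 A) ^ c' = Defect.pair (PicGrp.cls M hM) (𝟙 A) (𝟙 A) ^ c)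
    (P : ℚ[X]) (hP : ∀ t : ℤ, P.eval (t : ℚ) = (dg (f * 𝟙 A ^ t) : ℚ)) :
    0 < P.coeff (2 * r - 1) := by
  classical
  letI : A.left.Over (Spec (CommRingCat.of k)) := ⟨A.hom⟩
  haveI : IsProper (A.left ↘ Spec (CommRingCat.of k)) := ‹IsProper A.hom›
  haveI : IsIntegral A.left := GeometricallyIntegral.isIntegral_of_subsingleton A.hom
  haveI := EulerChar.isNoetherian k (X := A.left)
  set v := PicGrp.cls V hV.1 with hv
  set ω₀ := PicGrp.cls M hM with hω₀
  set B := Defect.pair v f (𝟙 A) with hBdef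
  set χ : ℚ := (Curv2.euler k A.left V : ℚ) with hχdef
  let cl : Fin 5 → PicLoc.PicSet A.left := ![op f v, v, B, ω₀, op (𝟙 A)⁻¹ ω₀]
  obtain ⟨G, hG, hev⟩ := DegPoly.exists_euler_poly (k := k) hr.le cl
  have hcls : ∀ (e : Fin 5 → ℤ) (N : A.left.Modules) (hN : PicF.IsInvertible N),
      PicGrp.cls N hN = op f v ^ e 0 * v ^ e 1 * B ^ e 2 * ω₀ ^ e 3 * op (𝟙 A)⁻¹ ω₀ ^ e 4 →
      (Curv2.euler k A.left N : ℚ) = MvPolynomial.eval (fun i => (e i : ℚ)) G := fun e N hN h => by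
    refine hev e N hN ?_
    rw [h, Fin.prod_univ_five]
    simp [cl]
  -- the two substitutions
  let ψD : Fin 5 → ℚ[X] := ![1, X ^ 2, X, 0, 0]
  let ψK : ℚ → ℚ → ℚ → Fin 5 → ℚ[X] := fun b m m' => ![0, X, C b, C m, C m']
  let K : ℚ → ℚ → ℚ → ℚ[X] := fun b m m' => MvPolynomial.aeval (ψK b m m') G
  have hKev : ∀ (b m m' : ℤ) (y : ℕ) (N : A.left.Modules) (hN : PicF.IsInvertible N),
      PicGrp.cls N hN = v ^ y * B ^ b * ω₀ ^ m * op (𝟙 A)⁻¹ ω₀ ^ m' →
      (K b m m').eval (y : ℚ) = (Curv2.euler k A.left N : ℚ) := by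
    intro b m m' y N hN h
    rw [hcls ![0, (y : ℤ), b, m, m'] N hN (by simp [h])]
    show (MvPolynomial.aeval (ψK b m m') G).eval (y : ℚ) = _
    rw [← Polynomial.coe_aeval_eq_eval, MvPolynomial.comp_aeval_apply, MvPolynomial.aeval_eq_eval]
    refine congrArg (fun z => MvPolynomial.eval z G) (funext fun i => ?_)
    fin_cases i <;> simp [ψK]
  have hnat : (Set.range ((↑) : ℕ → ℚ)).Infinite := Set.infinite_range_of_injective Nat.cast_injective
  -- `deg (f + t)`
  have hDeq : MvPolynomial.aeval ψD G = C χ * P := by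
    refine eq_of_infinite_eval_eq _ _ ((Set.infinite_range_of_injective (Int.cast_injective (α := ℚ))).mono ?_)
    rintro _ ⟨t, rfl⟩
    have := GrpScheme.EtaleEndo.isMonHom_zpow A t
    have : IsMonHom (f * 𝟙 A ^ t) := isMonHom_mul _ _
    have h1 := TraceLin.euler_pullback_eq A hr (f * 𝟙 A ^ t) V hV.1
    show (MvPolynomial.aeval ψD G).eval (t : ℚ) = (C χ * P).eval (t : ℚ)
    rw [eval_mul, eval_C, hP, hχdef, mul_comm, ← Int.cast_natCast (dg _), ← Int.cast_mul, ← h1,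
      hcls ![1, t ^ 2, t, 0, 0] _ (PicLoc.isInvertible_pullback (f * 𝟙 A ^ t).left hV.1) ?_]
    · rw [← Polynomial.coe_aeval_eq_eval, MvPolynomial.comp_aeval_apply, MvPolynomial.aeval_eq_eval]
      refine congrArg (fun z => MvPolynomial.eval z G) (funext fun i => ?_)
      fin_cases i <;> simp [ψD]
    rw [PicLaw.cls_pullback _ hV.1]
    show op (f * 𝟙 A ^ t) v = _
    rw [DegPoly.op_mul_eq, AbSch51.MulDeg.op_zpow A hsym t,
      show Defect.pair v f (𝟙 A ^ t) = DegPoly.pairHom v f (𝟙 A ^ t) from rfl, map_zpow,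
      ← zpow_natCast v, Nat.cast_mul, Int.natAbs_mul_self', ← sq]
    simp [hBdef]
    rfl
  -- the monomials
  let κ : ℚ := (MvPolynomial.aeval ψD G).coeff (2 * r - 1)
  have hmono : ∀ d ∈ G.support, ∀ b m m' : ℚ,
      (MvPolynomial.aeval (ψK b m m') (MvPolynomial.monomial d (G.coeff d))).coeff (r - 1) =
        (MvPolynomial.aeval (ψK 0 0 0) (MvPolynomial.monomial d (G.coeff d))).coeff (r - 1) +
        b * (MvPolynomial.aeval ψD (MvPolynomial.monomial d (G.coeff d))).coeff (2 * r - 1) +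
        m * ((MvPolynomial.aeval (ψK 0 1 0) (MvPolynomial.monomial d (G.coeff d))).coeff (r - 1) -
          (MvPolynomial.aeval (ψK 0 0 0) (MvPolynomial.monomial d (G.coeff d))).coeff (r - 1)) +
        m' * ((MvPolynomial.aeval (ψK 0 0 1) (MvPolynomial.monomial d (G.coeff d))).coeff (r - 1) -
          (MvPolynomial.aeval (ψK 0 0 0) (MvPolynomial.monomial d (G.coeff d))).coeff (r - 1)) := by
    intro d hd b m m'
    have hle := (MvPolynomial.le_totalDegree hd).trans hG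
    rw [Finsupp.sum_fintype _ _ (by simp), Fin.sum_univ_five] at hle
    have keyK : ∀ b m m' : ℚ, MvPolynomial.aeval (ψK b m m') (MvPolynomial.monomial d (G.coeff d)) =
        C (G.coeff d * (0 : ℚ) ^ d 0 * b ^ d 2 * m ^ d 3 * m' ^ d 4) * X ^ d 1 := fun b m m' => by
      rw [MvPolynomial.aeval_monomial, Finsupp.prod_fintype _ _ (by simp), Fin.prod_univ_five]
      simp [ψK]
      ring
    have keyD : MvPolynomial.aeval ψD (MvPolynomial.monomial d (G.coeff d)) =
        C (G.coeff d * (0 : ℚ) ^ d 3 * (0 : ℚ) ^ d 4) * X ^ (2 * d 1 + d 2) := by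
      rw [MvPolynomial.aeval_monomial, Finsupp.prod_fintype _ _ (by simp), Fin.prod_univ_five]
      simp [ψD, pow_add, pow_mul]
      ring
    simp only [keyK, keyD, coeff_C_mul_X_pow]
    by_cases h1 : r - 1 = d 1
    · rw [if_pos h1, if_pos h1, if_pos h1, if_pos h1]
      obtain h0 | h0 : d 0 = 0 ∨ 0 < d 0 := Nat.eq_zero_or_pos _
      · by_cases h2 : d 2 = 1
        · rw [if_pos (by omega), h0, h2, show d 3 = 0 by omega, show d 4 = 0 by omega]
          ring
        · rw [if_neg (by omega), show d 2 = 0 by omega, h0]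
          obtain ⟨h3, h4⟩ | ⟨h3, h4⟩ | ⟨h3, h4⟩ :
              (d 3 = 0 ∧ d 4 = 0) ∨ (d 3 = 1 ∧ d 4 = 0) ∨ (d 3 = 0 ∧ d 4 = 1) := by omega
          all_goals (rw [h3, h4]; ring)
      · rw [if_neg (by omega), zero_pow (by omega)]
        ring
    · rw [if_neg h1, if_neg h1, if_neg h1, if_neg h1, if_neg (by omega)]
      ring
  have haff : ∀ b m m' : ℚ, (K b m m').coeff (r - 1) = (K 0 0 0).coeff (r - 1) + b * κ +
      m * ((K 0 1 0).coeff (r - 1) - (K 0 0 0).coeff (r - 1)) +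
      m' * ((K 0 0 1).coeff (r - 1) - (K 0 0 0).coeff (r - 1)) := by
    intro b m m'
    have e : ∀ (ψ : Fin 5 → ℚ[X]) (n : ℕ), (MvPolynomial.aeval ψ G).coeff n = ∑ d ∈ G.support,
        (MvPolynomial.aeval ψ (MvPolynomial.monomial d (G.coeff d))).coeff n := fun ψ n => by
      conv_lhs => rw [G.as_sum, map_sum, finsetSum_coeff]
    show (MvPolynomial.aeval (ψK b m m') G).coeff _ = (MvPolynomial.aeval (ψK 0 0 0) G).coeff _ +
      b * (MvPolynomial.aeval ψD G).coeff _ +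
      m * ((MvPolynomial.aeval (ψK 0 1 0) G).coeff _ - (MvPolynomial.aeval (ψK 0 0 0) G).coeff _) +
      m' * ((MvPolynomial.aeval (ψK 0 0 1) G).coeff _ - (MvPolynomial.aeval (ψK 0 0 0) G).coeff _)
    rw [e, e, e, e, e]
    simp only [← Finset.sum_sub_distrib, Finset.mul_sum, ← Finset.sum_add_distrib]
    exact Finset.sum_congr rfl fun d hd => hmono d hd b m m'
  -- values
  have hO := ProperFin.isCoh_structureModule (X := A.left)
  have hMc := Cube.Seesaw.isCoh_of_invertible hM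
  have hVy : ∀ y : ℕ, ∃ h : PicF.IsInvertible (CohB1.tensorPow V y), PicGrp.cls _ h = v ^ y :=
    fun y => GrpScheme.PowPullback.cls_tensorPow hV.1 y
  have hO1 := PicLoc.isInvertible_structureModule A.left
  have hK0 : ∀ y : ℕ, (K 0 0 0).eval (y : ℚ) =
      (Curv2.euler k A.left (CohB1.tensorMod (CohB1.tensorPow V y) (Coh.structureModule A.left)) : ℚ) := by
    intro y
    obtain ⟨h, eh⟩ := hVy y
    have := hKev 0 0 0 y _ (PicLaw.isInvertible_tensor h hO1)
      (by rw [PicLaw.cls_tensor h hO1, eh, PicLaw.cls_one, zpow_zero, zpow_zero, zpow_zero]; simp)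
    simpa using this
  have hK1 : ∀ y : ℕ, (K 0 1 0).eval (y : ℚ) =
      (Curv2.euler k A.left (CohB1.tensorMod (CohB1.tensorPow V y) M) : ℚ) := by
    intro y
    obtain ⟨h, eh⟩ := hVy y
    have := hKev 0 1 0 y _ (PicLaw.isInvertible_tensor h hM)
      (by rw [PicLaw.cls_tensor h hM, eh, zpow_zero, zpow_one, zpow_zero]; simp [hω₀])
    simpa using this
  have hinv := isMonHom_inv A
  have hdinv : dg ((𝟙 A)⁻¹ : A ⟶ A) = 1 := by
    have : IsIso ((𝟙 A)⁻¹ : A ⟶ A) :=
      ⟨⟨(𝟙 A)⁻¹, AbSch51.MulDeg.inv_id_comp A, AbSch51.MulDeg.inv_id_comp A⟩⟩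
    exact dg_eq_one_of_isIso A _
  have hK2 : K 0 0 1 = K 0 1 0 := by
    refine eq_of_infinite_eval_eq _ _ (hnat.mono ?_)
    rintro _ ⟨y, rfl⟩
    show (K 0 0 1).eval (y : ℚ) = (K 0 1 0).eval (y : ℚ)
    obtain ⟨h, eh⟩ := hVy y
    have hN := PicLaw.isInvertible_tensor h hM
    have he := TraceLin.euler_pullback_eq A hr ((𝟙 A)⁻¹ : A ⟶ A) _ hN
    rw [hdinv, Nat.cast_one, _root_.one_mul] at he
    have hc2 := hKev 0 0 1 y _ (PicLoc.isInvertible_pullback ((𝟙 A)⁻¹ : A ⟶ A).left hN) (by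
      rw [PicLaw.cls_pullback _ hN, PicLaw.cls_tensor h hM, eh]
      show op (𝟙 A)⁻¹ (v ^ y * ω₀) = _
      rw [map_mul, map_pow, hsym, zpow_zero, zpow_zero, zpow_one]
      simp)
    simp only [Int.cast_zero, Int.cast_one] at hc2
    rw [hc2, he, hK1]
  -- `K 0 0 0` is `χ X^r`
  have hsupp : CohB1.support (Coh.structureModule A.left) = Set.univ := Set.eq_univ_of_forall fun x h => by
    obtain ⟨ee⟩ := EulerChar.stalk_ofRank (ProjTwist.isFinLocFreeOfRank_one hO1) x
    exact not_subsingleton (Fin 1 → A.left.presheaf.stalk x) (ee.toEquiv.subsingleton)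
  obtain ⟨P0, hP0c, hP0d, hP0⟩ := exists_hilb (k := k) hV hO (e := r) (by
    rw [hsupp, ← hr]
    exact IsHomeomorph.topologicalKrullDim_eq _ (Homeomorph.Set.univ A.left).isHomeomorph)
  have hP0K : K 0 0 0 = P0 := eq_of_infinite_eval_eq _ _ (hnat.mono (by
    rintro _ ⟨y, rfl⟩
    exact (hK0 y).trans (hP0 y).symm))
  have hsq : P0.comp (X ^ 2) = C χ * X ^ (2 * r) := by
    refine eq_of_infinite_eval_eq _ _ ((Set.infinite_of_injective_forall_mem
      (f := fun n : ℕ => ((n + 1 : ℕ) : ℚ)) (fun a b h => by simpa using h) fun n => ?_))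
    show (P0.comp (X ^ 2)).eval _ = (C χ * X ^ (2 * r) : ℚ[X]).eval _
    set t : ℕ := n + 1
    have ht : (t : ℤ) ≠ 0 := by omega
    have := GrpScheme.EtaleEndo.isMonHom_zpow A (t : ℤ)
    have h1 := TraceLin.euler_pullback_eq A hr (𝟙 A ^ (t : ℤ)) V hV.1
    have := (AbSch51.MulDeg.isFinite_flat_surjective A ht).1
    rw [dg_of_finite, AbSch51.MulDeg.finrank_eq A r hr ht, Int.natAbs_natCast] at h1
    have h2 := hKev 0 0 0 (t * t) _ (PicLoc.isInvertible_pullback (𝟙 A ^ (t : ℤ)).left hV.1) (by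
      rw [PicLaw.cls_pullback _ hV.1]
      show op (𝟙 A ^ (t : ℤ)) v = _
      rw [AbSch51.MulDeg.op_zpow A hsym, Int.natAbs_natCast]
      simp)
    simp only [Int.cast_zero] at h2
    rw [eval_comp, eval_pow, eval_X, eval_mul, eval_C, eval_pow, eval_X, sq, ← Nat.cast_mul, ← hP0K, h2, h1, hχdef]
    push_cast
    ring
  have hP0X : P0 = C χ * X ^ r := by
    refine eq_of_infinite_eval_eq _ _ ((Set.infinite_of_injective_forall_mem
      (f := fun n : ℕ => ((n : ℚ)) ^ 2) (fun a b h => by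
        have : a ^ 2 = b ^ 2 := by simpa using h
        exact Nat.pow_left_injective (by norm_num) this) fun n => ?_))
    show P0.eval _ = (C χ * X ^ r : ℚ[X]).eval _
    have h := congrArg (fun q : ℚ[X] => q.eval (n : ℚ)) hsq
    simp only [eval_comp, eval_pow, eval_X, eval_mul, eval_C] at h
    rw [h, eval_mul, eval_C, eval_pow, eval_X, ← pow_mul]
  have hχ : 0 < χ := by rwa [hP0X, coeff_C_mul_X_pow, if_pos rfl] at hP0c
  have h00 : (K 0 0 0).coeff (r - 1) = 0 := by rw [hP0K, hP0X, coeff_C_mul_X_pow, if_neg (by omega)]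
  -- the effective class
  have hmonoS := ZeroLocus.mono_of_ne_zero s hM hs
  have hQd := ZeroLocus.dim_cokernel s k hM hs hs' (e := r - 1) (by rw [hr, Nat.sub_add_cancel hr1])
  have hQc : Coh.IsCoh (cokernel s) := CohDev.isCoh_cokernel s hO.1 hMc
  obtain ⟨PQ, hPQc, -, hPQ⟩ := exists_hilb (k := k) hV hQc hQd
  have hsplit : K 0 1 0 = K 0 0 0 + PQ := by
    refine eq_of_infinite_eval_eq _ _ (hnat.mono ?_)
    rintro _ ⟨y, rfl⟩
    show (K 0 1 0).eval (y : ℚ) = (K 0 0 0 + PQ).eval (y : ℚ)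
    obtain ⟨h, -⟩ := hVy y
    have hS : (ShortComplex.mk s (cokernel.π s) (cokernel.condition s)).ShortExact :=
      { exact := ShortComplex.exact_of_g_is_cokernel _ (cokernelIsCokernel s)
        mono_f := inferInstanceAs (Mono s)
        epi_g := inferInstanceAs (Epi (cokernel.π s)) }
    have hk := congrArg (Snapper.chiT k h) (CohDev.kcl_add hS hO hMc hQc)
    rw [map_add, Snapper.chiT_kcl k h hO, Snapper.chiT_kcl k h hMc, Snapper.chiT_kcl k h hQc] at hk
    rw [eval_add, hK0, hK1, hPQ]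
    exact_mod_cast hk
  -- conclusion
  have hpow : (K (c' : ℤ) 0 0) = K 0 (c : ℤ) (c : ℤ) := by
    refine eq_of_infinite_eval_eq _ _ (hnat.mono ?_)
    rintro _ ⟨y, rfl⟩
    obtain ⟨N, hN, eN⟩ := PicLaw.exists_cls_eq (v ^ y * B ^ c')
    show (K (((c' : ℕ) : ℤ) : ℚ) 0 0).eval (y : ℚ) = (K 0 (((c : ℕ) : ℤ) : ℚ) (((c : ℕ) : ℤ) : ℚ)).eval (y : ℚ)
    have h1 := hKev (c' : ℤ) 0 0 y N hN (by rw [← eN, zpow_natCast, zpow_zero, zpow_zero]; simp)
    have h2 := hKev 0 (c : ℤ) (c : ℤ) y N hN (by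
      rw [← eN, hB, pair_one_one, _root_.mul_pow, zpow_natCast, zpow_natCast, zpow_zero]
      simp [_root_.mul_assoc])
    simp only [Int.cast_zero] at h1 h2
    rw [h1, h2]
  have ea := haff (c' : ℤ) 0 0
  have eb := haff 0 (c : ℤ) (c : ℤ)
  rw [hpow, eb, hK2, hsplit, coeff_add, h00] at ea
  have hκ : κ = χ * P.coeff (2 * r - 1) := by
    show (MvPolynomial.aeval ψD G).coeff _ = _
    rw [hDeq, coeff_C_mul]
  rw [hκ] at ea
  push_cast at ea
  have hc0 : (0 : ℚ) < (c : ℚ) := by exact_mod_cast hc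
  have hpos : (0 : ℚ) < (c' : ℚ) * (χ * P.coeff (2 * r - 1)) := by
    have h : 0 < (c : ℚ) * PQ.coeff (r - 1) := mul_pos hc0 hPQc
    linarith [ea]
  have hc'0 : (0 : ℚ) ≤ (c' : ℚ) := Nat.cast_nonneg _
  by_contra hneg
  have h2 : χ * P.coeff (2 * r - 1) ≤ 0 := mul_nonpos_of_nonneg_of_nonpos hχ.le (not_lt.mp hneg)
  linarith [mul_nonpos_of_nonneg_of_nonpos hc'0 h2]

end Groth.Agent.AbVarTrace.TracePos
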