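import Groth.Agent.AbSch51.MulDeg
import Groth.Agent.RelDiv.Degree
import Groth.Agent.AbVarLib.Isogeny
import Groth.Agent.GrpScheme.EtaleEndo

/-!
# Degrees of endomorphisms of block form on a product of two abelian varieties

`dg f` is the degree of `f` when `f` is finite and `0` otherwise. It is multiplicative on
endomorphisms of an abelian variety, which gives `dg (ba - n²) n^{4h} = dg (ab - n²) n^{4g}` for
`a : A ⟶ B`, `b : B ⟶ A` by factoring block matrices on `A ⊗ B`.
-/

set_option autoImplicit false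
set_option linter.style.haveILetI false

universe u

open CategoryTheory CategoryTheory.Limits MonoidalCategory CartesianMonoidalCategory MonObj GrpObj
  AlgebraicGeometry

noncomputable section

namespace Groth.Agent.AbVarTrace

variable {K : Type u} [Field K]

section dg

variable {X Y : Over (Spec (CommRingCat.of K))} [GrpObj Y]

open Classical in
/-- The degree over the unit point if finite, zero otherwise. -/
def dg (f : X ⟶ Y) : ℕ :=
  if IsFinite f.left then Scheme.Hom.finrank f.left (η[Y].left (IsLocalRing.closedPoint K)) else 0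

lemma dg_of_finite (f : X ⟶ Y) [IsFinite f.left] :
    dg f = Scheme.Hom.finrank f.left (η[Y].left (IsLocalRing.closedPoint K)) :=
  if_pos ‹_›

lemma dg_of_not_finite (f : X ⟶ Y) (h : ¬IsFinite f.left) : dg f = 0 := if_neg h

end dg

variable (X : Over (Spec (CommRingCat.of K))) [GrpObj X] [IsProper X.hom] [IsIntegral X.left]

theorem finite_flat_surjective (f : X ⟶ X) [IsMonHom f] [IsFinite f.left] :
    Flat f.left ∧ Surjective f.left ∧ LocallyOfFinitePresentation f.left := by
  have hs : Surjective f.left := AbVarLib.Isogeny.surjective_of_isFinite f rfl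
  exact ⟨GrpScheme.HomFlat.flat_of_surjective f, hs, GrpdLib.GrpOver.lfp_left f⟩

theorem finrank_eq_dg (f : X ⟶ X) [IsMonHom f] [IsFinite f.left] (y : X.left) :
    Scheme.Hom.finrank f.left y = dg f := by
  obtain ⟨_, _, _⟩ := finite_flat_surjective X f
  rw [dg_of_finite]
  exact f.left.isLocallyConstant_finrank.apply_eq_of_preconnectedSpace y _

theorem isFinLocFreeOfDeg (f : X ⟶ X) [IsMonHom f] [IsFinite f.left] :
    Mor2.IsFinLocFreeOfDeg (dg f) f.left := by
  obtain ⟨h1, -, h3⟩ := finite_flat_surjective X f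
  exact ⟨⟨‹_›, h1, h3⟩, finrank_eq_dg X f⟩

theorem isFinite_comp_iff (f g : X ⟶ X) [IsMonHom f] [IsMonHom g] :
    IsFinite (f ≫ g).left ↔ IsFinite f.left ∧ IsFinite g.left := by
  refine ⟨fun h => ?_, fun ⟨_, _⟩ => by rw [Over.comp_left]; infer_instance⟩
  have : IsProper (g.left ≫ X.hom) := by rw [Over.w g]; infer_instance
  have : IsProper g.left := IsProper.of_comp g.left X.hom
  rw [Over.comp_left] at h
  have hf : IsFinite f.left := IsFinite.of_comp f.left g.left
  obtain ⟨-, hs, -⟩ := finite_flat_surjective X f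
  refine ⟨hf, ?_⟩
  have : LocallyQuasiFinite g.left := by
    refine LocallyQuasiFinite.of_finite_preimage_singleton _ fun z => ?_
    refine ((IsFinite.finite_preimage_singleton (f.left ≫ g.left) z).image f.left).subset ?_
    intro y hy
    obtain ⟨x, rfl⟩ := f.left.surjective y
    exact ⟨x, hy, rfl⟩
  exact IsFinite.of_isProper_of_locallyQuasiFinite g.left

/-- The degree is multiplicative. -/
theorem dg_comp (f g : X ⟶ X) [IsMonHom f] [IsMonHom g] : dg (f ≫ g) = dg f * dg g := by
  by_cases h : IsFinite (f ≫ g).left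
  · obtain ⟨_, _⟩ := (isFinite_comp_iff X f g).mp h
    rw [dg_of_finite (f ≫ g)]
    exact (RelDiv.isFinLocFreeOfDeg_comp (isFinLocFreeOfDeg X f) (isFinLocFreeOfDeg X g)).2 _
  · rw [dg_of_not_finite _ h]
    rcases not_and_or.mp (mt (isFinite_comp_iff X f g).mpr h) with hf | hg
    · rw [dg_of_not_finite _ hf, zero_mul]
    · rw [dg_of_not_finite _ hg, mul_zero]

omit [IsProper X.hom] [IsIntegral X.left] in
theorem dg_eq_one_of_isIso (f : X ⟶ X) [IsIso f] : dg f = 1 := by
  have := GrpScheme.Basic.isIso_left f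
  rw [dg_of_finite, Scheme.Hom.finrank_eq_one_of_isIso]
  rfl

end Groth.Agent.AbVarTrace

namespace Groth.Agent.AbVarTrace

variable {K : Type u} [Field K] {A B : Over (Spec (CommRingCat.of K))} [GrpObj A] [GrpObj B]

/-- Extension by the identity on the second factor preserves the degree. -/
theorem dg_whiskerRight [IsProper A.hom] [IsIntegral A.left] [IsProper B.hom] (f : A ⟶ A) [IsMonHom f] :
    dg (f ▷ B) = dg f := by
  have hsq := (GrpScheme.Basic.isPullback_whiskerRight (R := B) f).map (Over.forget _)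
  have hiff : IsFinite (f ▷ B).left ↔ IsFinite f.left := by
    refine ⟨fun h => ?_, fun h => GrpScheme.Basic.whiskerRight_mem @IsFinite f B h⟩
    let s : A ⟶ A ⊗ B := lift (𝟙 A) 1
    have hs : s ≫ (f ▷ B) = f ≫ s := by
      refine CartesianMonoidalCategory.hom_ext _ _ (by simp [s]) ?_
      simp [s, MonObj.comp_one]
    have : IsSeparated (A ⊗ B).hom := by
      show IsSeparated (pullback.fst A.hom B.hom ≫ A.hom)
      infer_instance
    have hsep : IsSeparated (fst A B).left := by
      have : IsSeparated ((fst A B).left ≫ A.hom) := by rw [Over.w (fst A B)]; infer_instance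
      exact IsSeparated.of_comp (fst A B).left A.hom
    have : IsClosedImmersion (s.left ≫ (fst A B).left) := by
      rw [← Over.comp_left, lift_fst, Over.id_left]; infer_instance
    have hci : IsClosedImmersion s.left := IsClosedImmersion.of_comp s.left (fst A B).left
    have : IsFinite (f.left ≫ s.left) := by
      rw [← Over.comp_left, ← hs, Over.comp_left]; infer_instance
    exact IsFinite.of_comp f.left s.left
  by_cases h : IsFinite f.left
  · have := hiff.mpr h
    obtain ⟨_, _, _⟩ := finite_flat_surjective A f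
    rw [dg_of_finite (f ▷ B)]
    have : Flat ((Over.forget (Spec (CommRingCat.of K))).map f) := ‹Flat f.left›
    have : IsFinite ((Over.forget (Spec (CommRingCat.of K))).map f) := ‹IsFinite f.left›
    exact (Scheme.Hom.finrank_of_isPullback _ _ _ _ hsq.flip _).trans (finrank_eq_dg A f _)
  · rw [dg_of_not_finite _ h, dg_of_not_finite _ (mt hiff.mp h)]

/-- Extension by the identity on the first factor preserves the degree. -/
theorem dg_whiskerLeft [IsProper A.hom] [IsProper B.hom] [IsIntegral B.left] (f : B ⟶ B) [IsMonHom f] :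
    dg (A ◁ f) = dg f := by
  have hsq := (GrpScheme.Basic.isPullback_whiskerLeft (R := A) f).map (Over.forget _)
  have hiff : IsFinite (A ◁ f).left ↔ IsFinite f.left := by
    refine ⟨fun h => ?_, fun h => GrpScheme.Basic.whiskerLeft_mem @IsFinite f A h⟩
    let s : B ⟶ A ⊗ B := lift 1 (𝟙 B)
    have hs : s ≫ (A ◁ f) = f ≫ s := by
      refine CartesianMonoidalCategory.hom_ext _ _ ?_ (by simp [s])
      simp [s, MonObj.comp_one]
    have : IsSeparated (A ⊗ B).hom := by
      show IsSeparated (pullback.fst A.hom B.hom ≫ A.hom)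
      infer_instance
    have hsep : IsSeparated (snd A B).left := by
      have : IsSeparated ((snd A B).left ≫ B.hom) := by rw [Over.w (snd A B)]; infer_instance
      exact IsSeparated.of_comp (snd A B).left B.hom
    have : IsClosedImmersion (s.left ≫ (snd A B).left) := by
      rw [← Over.comp_left, lift_snd, Over.id_left]; infer_instance
    have hci : IsClosedImmersion s.left := IsClosedImmersion.of_comp s.left (snd A B).left
    have : IsFinite (f.left ≫ s.left) := by
      rw [← Over.comp_left, ← hs, Over.comp_left]; infer_instance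
    exact IsFinite.of_comp f.left s.left
  by_cases h : IsFinite f.left
  · have := hiff.mpr h
    obtain ⟨_, _, _⟩ := finite_flat_surjective B f
    rw [dg_of_finite (A ◁ f)]
    have : Flat ((Over.forget (Spec (CommRingCat.of K))).map f) := ‹Flat f.left›
    have : IsFinite ((Over.forget (Spec (CommRingCat.of K))).map f) := ‹IsFinite f.left›
    exact (Scheme.Hom.finrank_of_isPullback _ _ _ _ hsq.flip _).trans (finrank_eq_dg B f _)
  · rw [dg_of_not_finite _ h, dg_of_not_finite _ (mt hiff.mp h)]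

variable [IsCommMonObj A] [IsCommMonObj B]

theorem isMonHom_mul {X : Over (Spec (CommRingCat.of K))} [GrpObj X] (f g : X ⟶ A) [IsMonHom f] [IsMonHom g] :
    IsMonHom (f * g) := by
  rw [Hom.mul_def]; infer_instance

theorem isMonHom_zpow' {X : Over (Spec (CommRingCat.of K))} [GrpObj X] (f : X ⟶ A) [IsMonHom f] (n : ℤ) :
    IsMonHom (f ^ n) := by
  have := GrpScheme.EtaleEndo.isMonHom_zpow A n
  rw [show f ^ n = f ≫ (𝟙 A ^ n) by rw [GrpObj.comp_zpow, Category.comp_id]]
  infer_instance

/-- `(a, b) ↦ (a, δ a * b)`. -/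
def lowShear (δ : A ⟶ B) : A ⊗ B ≅ A ⊗ B where
  hom := lift (fst A B) ((fst A B ≫ δ) * snd A B)
  inv := lift (fst A B) ((fst A B ≫ δ)⁻¹ * snd A B)
  hom_inv_id := by
    refine CartesianMonoidalCategory.hom_ext _ _ (by simp) ?_
    simp [MonObj.comp_mul, GrpObj.comp_inv]
  inv_hom_id := by
    refine CartesianMonoidalCategory.hom_ext _ _ (by simp) ?_
    simp [MonObj.comp_mul, GrpObj.comp_inv]

/-- `(a, b) ↦ (a * gam b, b)`. -/
def upShear (gam : B ⟶ A) : A ⊗ B ≅ A ⊗ B where
  hom := lift (fst A B * (snd A B ≫ gam)) (snd A B)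
  inv := lift (fst A B * (snd A B ≫ gam)⁻¹) (snd A B)
  hom_inv_id := by
    refine CartesianMonoidalCategory.hom_ext _ _ ?_ (by simp)
    simp [MonObj.comp_mul, GrpObj.comp_inv]
  inv_hom_id := by
    refine CartesianMonoidalCategory.hom_ext _ _ ?_ (by simp)
    simp [MonObj.comp_mul, GrpObj.comp_inv]

theorem isMonHom_lowShear (δ : A ⟶ B) [IsMonHom δ] : IsMonHom (lowShear δ).hom := by
  have := isMonHom_mul (fst A B ≫ δ) (snd A B)
  show IsMonHom (lift _ _)
  infer_instance

theorem isMonHom_upShear (gam : B ⟶ A) [IsMonHom gam] : IsMonHom (upShear gam).hom := by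
  have := isMonHom_mul (fst A B) (snd A B ≫ gam)
  show IsMonHom (lift _ _)
  infer_instance

theorem isMonHom_whiskerRight (φ : A ⟶ A) [IsMonHom φ] : IsMonHom (φ ▷ B) := by
  rw [show φ ▷ B = lift (fst A B ≫ φ) (snd A B) from
    CartesianMonoidalCategory.hom_ext _ _ (by simp) (by simp)]
  infer_instance

theorem isMonHom_whiskerLeft (c : B ⟶ B) [IsMonHom c] : IsMonHom (A ◁ c) := by
  rw [show A ◁ c = lift (fst A B) (snd A B ≫ c) from
    CartesianMonoidalCategory.hom_ext _ _ (by simp) (by simp)]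
  infer_instance

variable [IsProper A.hom] [GeometricallyIntegral A.hom] [IsProper B.hom] [GeometricallyIntegral B.hom]

omit [GrpObj A] [GrpObj B] [IsCommMonObj A] [IsCommMonObj B] [GeometricallyIntegral A.hom]
  [GeometricallyIntegral B.hom] in
theorem isProper_tensor : IsProper (A ⊗ B).hom := by
  show IsProper (pullback.fst A.hom B.hom ≫ A.hom)
  infer_instance

omit [GrpObj A] [GrpObj B] [IsCommMonObj A] [IsCommMonObj B] in
theorem isIntegral_tensor : IsIntegral (A ⊗ B).left := by
  have : IsIntegral A.left := GeometricallyIntegral.isIntegral_of_subsingleton A.hom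
  have : IsIntegral B.left := GeometricallyIntegral.isIntegral_of_subsingleton B.hom
  have : IsLocallyNoetherian A.left := LocallyOfFiniteType.isLocallyNoetherian A.hom
  have : UniversallyOpen B.hom := inferInstance
  show IsIntegral (pullback A.hom B.hom)
  infer_instance

/-- The lower triangular matrix `(φ, 0; δ, c)`. -/
theorem dg_low (φ : A ⟶ A) (δ : A ⟶ B) (c : B ⟶ B) [IsMonHom φ] [IsMonHom δ] [IsMonHom c] :
    dg (lift (fst A B ≫ φ) ((fst A B ≫ δ) * (snd A B ≫ c))) = dg φ * dg c := by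
  have := isProper_tensor (A := A) (B := B)
  have := isIntegral_tensor (A := A) (B := B)
  have : IsIntegral A.left := GeometricallyIntegral.isIntegral_of_subsingleton A.hom
  have : IsIntegral B.left := GeometricallyIntegral.isIntegral_of_subsingleton B.hom
  have := isMonHom_lowShear δ
  have := isMonHom_whiskerRight (B := B) φ
  have := isMonHom_whiskerLeft (A := A) c
  have e : lift (fst A B ≫ φ) ((fst A B ≫ δ) * (snd A B ≫ c)) =
      ((A ◁ c) ≫ (lowShear δ).hom) ≫ (φ ▷ B) := by
    refine CartesianMonoidalCategory.hom_ext _ _ ?_ ?_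
    · simp [lowShear]
    · simp [lowShear, MonObj.comp_mul]
  rw [e, dg_comp, dg_comp, dg_eq_one_of_isIso (A ⊗ B) (lowShear δ).hom, dg_whiskerRight, dg_whiskerLeft, _root_.mul_one, _root_.mul_comm]

/-- The upper triangular matrix `(φ, gam; 0, c)`. -/
theorem dg_up (φ : A ⟶ A) (gam : B ⟶ A) (c : B ⟶ B) [IsMonHom φ] [IsMonHom gam] [IsMonHom c] :
    dg (lift ((fst A B ≫ φ) * (snd A B ≫ gam)) (snd A B ≫ c)) = dg φ * dg c := by
  have := isProper_tensor (A := A) (B := B)
  have := isIntegral_tensor (A := A) (B := B)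
  have : IsIntegral A.left := GeometricallyIntegral.isIntegral_of_subsingleton A.hom
  have : IsIntegral B.left := GeometricallyIntegral.isIntegral_of_subsingleton B.hom
  have := isMonHom_upShear gam
  have := isMonHom_whiskerRight (B := B) φ
  have := isMonHom_whiskerLeft (A := A) c
  have e : lift ((fst A B ≫ φ) * (snd A B ≫ gam)) (snd A B ≫ c) =
      ((φ ▷ B) ≫ (upShear gam).hom) ≫ (A ◁ c) := by
    refine CartesianMonoidalCategory.hom_ext _ _ ?_ ?_
    · simp [upShear, MonObj.comp_mul]
    · simp [upShear]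
  rw [e, dg_comp, dg_comp, dg_eq_one_of_isIso (A ⊗ B) (upShear gam).hom, dg_whiskerRight, dg_whiskerLeft, _root_.mul_one]

/-- The comparison of the degrees of `βα - n²` and `αβ - n²`. -/
theorem dg_sub_sq (α : A ⟶ B) (β : B ⟶ A) [IsMonHom α] [IsMonHom β] (g h : ℕ)
    (hg : topologicalKrullDim A.left = (g : WithBot ℕ∞)) (hh : topologicalKrullDim B.left = (h : WithBot ℕ∞))
    {n : ℤ} (hn : n ≠ 0) :
    dg ((α ≫ β) * 𝟙 A ^ (-(n * n))) * (n.natAbs ^ (2 * h)) ^ 2 =
      dg ((β ≫ α) * 𝟙 B ^ (-(n * n))) * (n.natAbs ^ (2 * g)) ^ 2 := by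
  have hA : ∀ m : ℤ, m ≠ 0 → dg (𝟙 A ^ m) = m.natAbs ^ (2 * g) := fun m hm => by
    have := (AbSch51.MulDeg.isFinite_flat_surjective A hm).1
    rw [dg_of_finite, AbSch51.MulDeg.finrank_eq A g hg hm]
  have hB : ∀ m : ℤ, m ≠ 0 → dg (𝟙 B ^ m) = m.natAbs ^ (2 * h) := fun m hm => by
    have := (AbSch51.MulDeg.isFinite_flat_surjective B hm).1
    rw [dg_of_finite, AbSch51.MulDeg.finrank_eq B h hh hm]
  have := isProper_tensor (A := A) (B := B)
  have := isIntegral_tensor (A := A) (B := B)
  have zA : ∀ m : ℤ, IsMonHom (𝟙 A ^ m) := fun m => GrpScheme.EtaleEndo.isMonHom_zpow A m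
  have zB : ∀ m : ℤ, IsMonHom (𝟙 B ^ m) := fun m => GrpScheme.EtaleEndo.isMonHom_zpow B m
  set φ := (α ≫ β) * 𝟙 A ^ (-(n * n)) with hφ
  set ψ := (β ≫ α) * 𝟙 B ^ (-(n * n)) with hψ
  have : IsMonHom φ := isMonHom_mul _ _
  have : IsMonHom ψ := isMonHom_mul _ _
  have := isMonHom_zpow' α n
  have := isMonHom_zpow' β n
  let M : A ⊗ B ⟶ A ⊗ B :=
    lift ((fst A B ≫ 𝟙 A ^ n) * (snd A B ≫ β)) ((fst A B ≫ α) * (snd A B ≫ 𝟙 B ^ n))
  have hM : IsMonHom M := by
    have := isMonHom_mul (fst A B ≫ 𝟙 A ^ n) (snd A B ≫ β)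
    have := isMonHom_mul (fst A B ≫ α) (snd A B ≫ 𝟙 B ^ n)
    show IsMonHom (lift _ _)
    infer_instance
  let T := lift (fst A B ≫ 𝟙 A ^ (-n)) ((fst A B ≫ α) * (snd A B ≫ 𝟙 B ^ n))
  let T' := lift ((fst A B ≫ 𝟙 A ^ n) * (snd A B ≫ β)) (snd A B ≫ 𝟙 B ^ (-n))
  have hT : IsMonHom T := by
    have := isMonHom_mul (fst A B ≫ α) (snd A B ≫ 𝟙 B ^ n)
    show IsMonHom (lift _ _)
    infer_instance
  have hT' : IsMonHom T' := by
    have := isMonHom_mul (fst A B ≫ 𝟙 A ^ n) (snd A B ≫ β)
    show IsMonHom (lift _ _)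
    infer_instance
  have h1 : T ≫ M = lift ((fst A B ≫ φ) * (snd A B ≫ β ^ n)) (snd A B ≫ 𝟙 B ^ (n * n)) := by
    refine CartesianMonoidalCategory.hom_ext _ _ ?_ ?_
    · simp only [T, M, Category.assoc, lift_fst, lift_snd, MonObj.comp_mul, GrpObj.comp_zpow,
        Category.comp_id, lift_fst_assoc, lift_snd_assoc, hφ, MonObj.mul_comp]
      rw [← _root_.zpow_mul, GrpObj.zpow_comp, _root_.mul_assoc, neg_mul]
      exact _root_.mul_left_comm _ _ _
    · simp only [T, M, Category.assoc, lift_fst, lift_snd, MonObj.comp_mul, GrpObj.comp_zpow,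
        Category.comp_id, lift_fst_assoc, lift_snd_assoc, GrpObj.zpow_comp, mul_zpow]
      rw [← _root_.mul_assoc, zpow_neg, inv_mul_cancel, _root_.one_mul, ← _root_.zpow_mul]
  have h2 : T' ≫ M = lift (fst A B ≫ 𝟙 A ^ (n * n)) ((fst A B ≫ α ^ n) * (snd A B ≫ ψ)) := by
    refine CartesianMonoidalCategory.hom_ext _ _ ?_ ?_
    · simp only [T', M, Category.assoc, lift_fst, lift_snd, MonObj.comp_mul, GrpObj.comp_zpow,
        Category.comp_id, lift_fst_assoc, lift_snd_assoc, GrpObj.zpow_comp, mul_zpow]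
      rw [_root_.mul_assoc, zpow_neg, mul_inv_cancel, _root_.mul_one, ← _root_.zpow_mul]
    · simp only [T', M, Category.assoc, lift_fst, lift_snd, MonObj.comp_mul, GrpObj.comp_zpow,
        Category.comp_id, lift_fst_assoc, lift_snd_assoc, hψ, MonObj.mul_comp]
      rw [← _root_.zpow_mul, GrpObj.zpow_comp, neg_mul, _root_.mul_assoc]
  have e1 : dg T * dg M = dg φ * dg (𝟙 B ^ (n * n)) := by
    rw [← dg_comp, h1]; exact dg_up _ _ _
  have e2 : dg T' * dg M = dg (𝟙 A ^ (n * n)) * dg ψ := by
    rw [← dg_comp, h2]; exact dg_low _ _ _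
  have eT : dg T = n.natAbs ^ (2 * g) * n.natAbs ^ (2 * h) := by
    rw [show T = lift (fst A B ≫ 𝟙 A ^ (-n)) ((fst A B ≫ α) * (snd A B ≫ 𝟙 B ^ n)) from rfl, dg_low,
      hA _ (neg_ne_zero.mpr hn), hB _ hn, Int.natAbs_neg]
  have eT' : dg T' = n.natAbs ^ (2 * g) * n.natAbs ^ (2 * h) := by
    rw [show T' = lift ((fst A B ≫ 𝟙 A ^ n) * (snd A B ≫ β)) (snd A B ≫ 𝟙 B ^ (-n)) from rfl, dg_up,
      hB _ (neg_ne_zero.mpr hn), hA _ hn, Int.natAbs_neg]
  rw [eT, hB _ (mul_ne_zero hn hn), Int.natAbs_mul] at e1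
  rw [eT', hA _ (mul_ne_zero hn hn), Int.natAbs_mul] at e2
  rw [sq, sq, ← Nat.mul_pow, ← Nat.mul_pow, ← e1, e2, Nat.mul_comm]

end Groth.Agent.AbVarTrace
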