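import Groth.Agent.AbSch51.MulDeg
import Groth.Agent.RelDiv.Degree
import Mathlib.LinearAlgebra.FreeModule.PID
import Mathlib.LinearAlgebra.Matrix.ToLin
import Mathlib.LinearAlgebra.Matrix.Basis

/-!
# Degrees of integer matrices acting on powers of an abelian variety
-/

set_option autoImplicit false
set_option linter.style.haveILetI false
set_option linter.unusedSectionVars false

universe u

open CategoryTheory CategoryTheory.Limits MonoidalCategory CartesianMonoidalCategory MonObj GrpObj
  AlgebraicGeometry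

noncomputable section

namespace Groth.Agent.AbVarTrace.Mat

/-- Smith normal form of a nonsingular integer matrix. -/
theorem exists_smith {r : ℕ} (α : Matrix (Fin r) (Fin r) ℤ) (hα : α.det ≠ 0) :
    ∃ (U U' V V' : Matrix (Fin r) (Fin r) ℤ) (a : Fin r → ℤ),
      U * U' = 1 ∧ V * V' = 1 ∧ α = U * Matrix.diagonal a * V := by
  let f : (Fin r → ℤ) →ₗ[ℤ] (Fin r → ℤ) := Matrix.toLin' α
  have hf : Function.Injective f := by
    rw [← LinearMap.ker_eq_bot, LinearMap.ker_eq_bot']
    intro v hv
    by_contra hne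
    exact hα (Matrix.exists_mulVec_eq_zero_iff.mp ⟨v, hne, by simpa [f, Matrix.toLin'_apply] using hv⟩)
  let N := LinearMap.range f
  let e : (Fin r → ℤ) ≃ₗ[ℤ] N := LinearEquiv.ofInjective f hf
  obtain ⟨bM, a, bN, hsnf⟩ :=
    Submodule.exists_smith_normal_form_of_rank_eq (N := N) (Pi.basisFun ℤ (Fin r)) e.finrank_eq.symm
  let bS := bN.map e.symm
  let β := Pi.basisFun ℤ (Fin r)
  refine ⟨β.toMatrix bM, bM.toMatrix β, bS.toMatrix β, β.toMatrix bS, a,
    β.toMatrix_mul_toMatrix_flip bM, bS.toMatrix_mul_toMatrix_flip β, ?_⟩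
  have hd : LinearMap.toMatrix bS bM f = Matrix.diagonal a := by
    ext i j
    have : f (bS j) = a j • bM j := by
      rw [← hsnf j]
      exact congrArg Subtype.val (e.apply_symm_apply (bN j))
    rw [LinearMap.toMatrix_apply, this, map_smul, Module.Basis.repr_self, Finsupp.smul_single,
      smul_eq_mul, _root_.mul_one, Finsupp.single_apply, Matrix.diagonal_apply]
    by_cases h : j = i
    · subst h; simp
    · rw [if_neg h, if_neg (Ne.symm h)]
  have h0 : LinearMap.toMatrix β β f = α := by
    show LinearMap.toMatrix' (Matrix.toLin' α) = α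
    exact LinearMap.toMatrix'_toLin' α
  rw [← hd, ← h0]
  exact (basis_toMatrix_mul_linearMap_toMatrix_mul_basis_toMatrix β bS β bM f).symm

variable {K : Type u} [Field K] (X : Over (Spec (CommRingCat.of K))) [GrpObj X] [IsCommMonObj X] {r : ℕ}

local notation "Xr" => (∏ᶜ fun _ : Fin r => X)

/-- The endomorphism of a power given by an integer matrix. -/
def act (α : Matrix (Fin r) (Fin r) ℤ) : (∏ᶜ fun _ : Fin r => X) ⟶ (∏ᶜ fun _ : Fin r => X) :=
  Pi.lift (fun i => ∏ j : Fin r, (Pi.π (fun _ : Fin r => X) j) ^ (α i j))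

theorem act_π (α : Matrix (Fin r) (Fin r) ℤ) (i : Fin r) :
    act X α ≫ Pi.π (fun _ : Fin r => X) i = ∏ j, (Pi.π (fun _ : Fin r => X) j) ^ (α i j) :=
  limit.lift_π _ _

/-- Precomposition is a homomorphism. -/
def pre {S T : Over (Spec (CommRingCat.of K))} (f : S ⟶ T) : (T ⟶ X) →* (S ⟶ X) where
  toFun g := f ≫ g
  map_one' := MonObj.comp_one f
  map_mul' g h := MonObj.comp_mul f g h

theorem act_one : act X (1 : Matrix (Fin r) (Fin r) ℤ) = 𝟙 _ := by
  refine Pi.hom_ext _ _ fun i => ?_
  rw [act_π, Category.id_comp, Finset.prod_eq_single i]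
  · rw [Matrix.one_apply_eq, zpow_one]
  · intro j _ hj; rw [Matrix.one_apply_ne (Ne.symm hj), zpow_zero]
  · intro h; exact absurd (Finset.mem_univ i) h

theorem act_mul (α β : Matrix (Fin r) (Fin r) ℤ) : act X (α * β) = act X β ≫ act X α := by
  refine Pi.hom_ext _ _ fun i => ?_
  rw [act_π, Category.assoc, act_π]
  refine Eq.trans ?_ (map_prod (pre X (act X β)) _ _).symm
  have : ∀ j, pre X (act X β) (Pi.π (fun _ : Fin r => X) j ^ α i j) =
      ∏ l, Pi.π (fun _ : Fin r => X) l ^ (β j l * α i j) := fun j => by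
    rw [map_zpow]
    show (act X β ≫ Pi.π (fun _ : Fin r => X) j) ^ α i j = _
    rw [act_π, ← Finset.prod_zpow]
    exact Finset.prod_congr rfl fun l _ => ((_root_.zpow_mul _ _ _)).symm
  rw [Finset.prod_congr rfl fun j _ => this j, Finset.prod_comm]
  refine Finset.prod_congr rfl fun l _ => ?_
  have hs : ∀ s : Finset (Fin r), ∏ j ∈ s, Pi.π (fun _ : Fin r => X) l ^ (β j l * α i j) =
      Pi.π (fun _ : Fin r => X) l ^ (∑ j ∈ s, β j l * α i j) := fun s => by
    classical
    induction s using Finset.induction_on with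
    | empty => simp
    | insert a s ha ih => rw [Finset.prod_insert ha, Finset.sum_insert ha, zpow_add, ih]
  rw [hs, Matrix.mul_apply]
  exact congrArg _ (Finset.sum_congr rfl fun j _ => _root_.mul_comm _ _)

theorem isIso_act (U U' : Matrix (Fin r) (Fin r) ℤ) (h : U * U' = 1) : IsIso (act X U) :=
  ⟨act X U', by rw [← act_mul, mul_eq_one_comm.mp h, act_one],
    by rw [← act_mul, h, act_one]⟩

variable [IsProper X.hom] [GeometricallyIntegral X.hom]

theorem deg_single (g : ℕ) (hg : topologicalKrullDim X.left = (g : WithBot ℕ∞)) (i : Fin r) (c : ℤ) (hc : c ≠ 0) :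
    Mor2.IsFinLocFreeOfDeg (c.natAbs ^ (2 * g))
      (act X (Matrix.diagonal (Function.update 1 i c))).left := by
  classical
  set E := act X (Matrix.diagonal (Function.update (1 : Fin r → ℤ) i c)) with hE
  have hEj : ∀ j, E ≫ Pi.π (fun _ : Fin r => X) j =
      Pi.π (fun _ : Fin r => X) j ^ Function.update (1 : Fin r → ℤ) i c j := fun j => by
    rw [hE, act_π, Finset.prod_eq_single j]
    · rw [Matrix.diagonal_apply_eq]
    · intro l _ hl; rw [Matrix.diagonal_apply_ne _ (Ne.symm hl), zpow_zero]
    · intro h; exact absurd (Finset.mem_univ j) h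
  have hw : E ≫ Pi.π (fun _ : Fin r => X) i = Pi.π (fun _ : Fin r => X) i ≫ (𝟙 X ^ c) := by
    rw [hEj, Function.update_self, GrpObj.comp_zpow, Category.comp_id]
  have hsq : IsPullback E (Pi.π (fun _ : Fin r => X) i) (Pi.π (fun _ : Fin r => X) i) (𝟙 X ^ c) :=
    ⟨⟨hw⟩, ⟨PullbackCone.IsLimit.mk _
      (fun s => Pi.lift fun j => if j = i then s.snd else s.fst ≫ Pi.π (fun _ : Fin r => X) j)
      (fun s => by
        refine Pi.hom_ext _ _ fun j => ?_
        rw [Category.assoc, hEj, GrpObj.comp_zpow, limit.lift_π]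
        dsimp
        by_cases hj : j = i
        · subst hj
          rw [if_pos rfl, Function.update_self, s.condition, GrpObj.comp_zpow, Category.comp_id]
        · rw [if_neg hj, Function.update_of_ne hj, Pi.one_apply, zpow_one])
      (fun s => by rw [limit.lift_π]; exact if_pos rfl)
      (fun s m h1 h2 => by
        refine Pi.hom_ext _ _ fun j => ?_
        rw [limit.lift_π]
        dsimp
        by_cases hj : j = i
        · subst hj
          rw [if_pos rfl]; exact h2
        · rw [if_neg hj, ← h1, Category.assoc, hEj, Function.update_of_ne hj, Pi.one_apply, zpow_one])⟩⟩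
  obtain ⟨h1, h2, -⟩ := AbSch51.MulDeg.isFinite_flat_surjective X hc
  have h3 : LocallyOfFinitePresentation (𝟙 X ^ c).left := GrpdLib.GrpOver.lfp_left _
  have hsq' := (hsq.map (Over.forget _)).flip
  have g1 : IsFinite E.left := MorphismProperty.of_isPullback (P := @IsFinite) hsq' h1
  have g2 : Flat E.left := MorphismProperty.of_isPullback (P := @Flat) hsq' h2
  have g3 : LocallyOfFinitePresentation E.left :=
    MorphismProperty.of_isPullback (P := @LocallyOfFinitePresentation) hsq' h3
  refine ⟨⟨g1, g2, g3⟩, fun y => ?_⟩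
  have : Flat ((Over.forget (Spec (CommRingCat.of K))).map (𝟙 X ^ c)) := h2
  have : IsFinite ((Over.forget (Spec (CommRingCat.of K))).map (𝟙 X ^ c)) := h1
  exact (Scheme.Hom.finrank_of_isPullback _ _ _ _ hsq' y).trans (AbSch51.MulDeg.finrank_eq X g hg hc _)

theorem deg_diagonal (g : ℕ) (hg : topologicalKrullDim X.left = (g : WithBot ℕ∞)) (a : Fin r → ℤ)
    (ha : ∀ i, a i ≠ 0) (s : Finset (Fin r)) :
    Mor2.IsFinLocFreeOfDeg ((∏ i ∈ s, (a i).natAbs) ^ (2 * g))
      (act X (Matrix.diagonal fun i => if i ∈ s then a i else 1)).left := by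
  classical
  induction s using Finset.induction_on with
  | empty =>
    simp only [Finset.notMem_empty, if_false, Finset.prod_empty, one_pow, Matrix.diagonal_one, act_one]
    rw [Over.id_left]
    refine ⟨⟨inferInstance, inferInstance, inferInstance⟩, fun y => ?_⟩
    rw [Scheme.Hom.finrank_eq_one_of_isIso]; rfl
  | insert j s hj ih =>
    have e : (Matrix.diagonal fun i => if i ∈ insert j s then a i else 1) =
        (Matrix.diagonal fun i => if i ∈ s then a i else 1) * Matrix.diagonal (Function.update 1 j (a j)) := by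
      rw [Matrix.diagonal_mul_diagonal]
      congr 1
      funext i
      by_cases hi : i = j
      · subst hi; simp [hj]
      · simp [hi]
    rw [e, act_mul, Over.comp_left, Finset.prod_insert hj, _root_.mul_pow]
    exact RelDiv.isFinLocFreeOfDeg_comp (deg_single X g hg j (a j) (ha j)) ih

/-- An endomorphism given by an integer matrix has degree `|det| ^ 2g`. -/
theorem deg_act (g : ℕ) (hg : topologicalKrullDim X.left = (g : WithBot ℕ∞))
    (α : Matrix (Fin r) (Fin r) ℤ) (hα : α.det ≠ 0) :
    Mor2.IsFinLocFreeOfDeg (α.det.natAbs ^ (2 * g)) (act X α).left := by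
  classical
  obtain ⟨U, U', V, V', a, hU, hV, rfl⟩ := exists_smith α hα
  rw [Matrix.det_mul, Matrix.det_mul, Matrix.det_diagonal] at hα ⊢
  have hu : ∀ {A A' : Matrix (Fin r) (Fin r) ℤ}, A * A' = 1 → A.det.natAbs = 1 := fun {A A'} h => by
    have := congrArg Int.natAbs (congrArg Matrix.det h)
    rw [Matrix.det_mul, Matrix.det_one, Int.natAbs_mul, Int.natAbs_one] at this
    exact Nat.eq_one_of_mul_eq_one_right this
  have ha : ∀ i, a i ≠ 0 := fun i => (Finset.prod_ne_zero_iff.mp
    (mul_ne_zero_iff.mp (mul_ne_zero_iff.mp hα).1).2) i (Finset.mem_univ i)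
  have hiso : ∀ {A A' : Matrix (Fin r) (Fin r) ℤ}, A * A' = 1 → Mor2.IsFinLocFreeOfDeg 1 (act X A).left :=
    fun {A A'} h => by
      have := isIso_act X A A' h
      have : IsIso (act X A).left := inferInstanceAs (IsIso ((Over.forget _).map (act X A)))
      refine ⟨⟨inferInstance, inferInstance, inferInstance⟩, fun y => ?_⟩
      rw [Scheme.Hom.finrank_eq_one_of_isIso]; rfl
  have hd := deg_diagonal X g hg a ha Finset.univ
  simp only [Finset.mem_univ, if_true] at hd
  have key := RelDiv.isFinLocFreeOfDeg_comp (RelDiv.isFinLocFreeOfDeg_comp (hiso hV) hd) (hiso hU)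
  rw [_root_.one_mul, _root_.mul_one] at key
  rw [act_mul, act_mul, Over.comp_left, Over.comp_left, Int.natAbs_mul, Int.natAbs_mul, hu hU, hu hV,
    _root_.one_mul, _root_.mul_one, show (∏ i, a i).natAbs = ∏ i, (a i).natAbs from map_prod Int.natAbsHom a _]
  rw [Category.assoc] at key
  exact key

end Groth.Agent.AbVarTrace.Mat
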