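import Groth.Agent.AbVarLib.DegPoly
import Groth.Agent.AbVarTrace.Deg
import Groth.Prelude.Def_EndRing

/-!
# The trace is linear in the pairing class `(f, 1)`

The coefficient of `t^(2r-1)` in `deg (f + t)` is a linear function of the class `pair l 1 f`; the
relation defining the Rosati involution gives these classes by the seesaw principle.
-/

set_option autoImplicit false
set_option linter.unusedSectionVars false
universe u

open CategoryTheory CategoryTheory.Limits MonoidalCategory CartesianMonoidalCategory MonObj AlgebraicGeometry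

noncomputable section

namespace Groth.Agent.AbVarTrace.TraceLin

open scoped Groth.Agent.PicLaw
open PicLaw.Mumford (op)
open AbVarLib

variable {k : Type u} [Field k] [IsAlgClosed k] (A : Over (Spec (CommRingCat.of k))) [GrpObj A]
  [IsCommMonObj A] [IsProper A.hom] [GeometricallyIntegral A.hom]

/-- The translation by a point. -/
abbrev tr (x : 𝟙_ (Over (Spec (CommRingCat.of k))) ⟶ A) : A ⟶ A := 𝟙 A * (toUnit A ≫ x)

theorem pair_const (l : PicLoc.PicSet A.left) (x : 𝟙_ (Over (Spec (CommRingCat.of k))) ⟶ A) :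
    Defect.pair l (𝟙 A) (toUnit A ≫ x) = op (tr A x) l / l := by
  have hx : op x l = 1 := by
    obtain ⟨L, hL, rfl⟩ := PicGrp.exists_eq_cls l
    rw [op, ← PicLaw.cls_pullback _ hL]
    have : Subsingleton ↥(𝟙_ (Over (Spec (CommRingCat.of k)))).left :=
      inferInstanceAs (Subsingleton (PrimeSpectrum k))
    have : Nonempty ↥(𝟙_ (Over (Spec (CommRingCat.of k)))).left :=
      inferInstanceAs (Nonempty (PrimeSpectrum k))
    exact (PicGrp.cls_eq_one_iff _).mpr
      (PicLaw.nonempty_iso_of_subsingleton (PicLoc.isInvertible_pullback _ hL))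
  rw [Defect.pair, show op (𝟙 A) l = l from PicLaw.pl_id _, PicLaw.Mumford.op_comp, hx, map_one,
    _root_.mul_one]

/-- The defining relation of the Rosati involution, as an equality of pairings. -/
theorem pair_adjoint (l : PicLoc.PicSet A.left) (α ρ : A ⟶ A) [IsMonHom α] [IsMonHom ρ] (n : ℕ)
    (h : ∀ x, op (tr A (x ≫ ρ)) l * op α (l ^ n) = l * op α (op (tr A x) (l ^ n))) (b₁ g₁ : A ⟶ A) :
    Defect.pair l b₁ (g₁ ≫ ρ) = Defect.pair l (b₁ ≫ α) g₁ ^ n := by
  have : IsIntegral A.left := GeometricallyIntegral.isIntegral_of_subsingleton A.hom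
  let c := Defect.pair l (fst A A) (snd A A ≫ ρ) / Defect.pair l (fst A A ≫ α) (snd A A) ^ n
  have hc : c = 1 := by
    refine Degenerate.eq_one_of_slices c η[A] (fun x => ?_) ?_
    · have e : Defect.pair l α (toUnit A ≫ x) = op α (Defect.pair l (𝟙 A) (toUnit A ≫ x)) := by
        rw [Defect.op_pair, Category.comp_id, ← Category.assoc, comp_toUnit]
      simp only [c, map_div, map_pow, Defect.op_pair, lift_fst, lift_snd, lift_fst_assoc, lift_snd_assoc,
        Category.id_comp, Category.assoc]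
      rw [e, pair_const, pair_const, div_eq_one, map_div, div_pow, ← map_pow, ← map_pow, ← map_pow,
        div_eq_div_iff_mul_eq_mul, h]
      exact _root_.mul_comm _ _
    · simp only [c, map_div, map_pow, Defect.op_pair, lift_fst, lift_snd, lift_fst_assoc, lift_snd_assoc,
        Category.id_comp, Category.assoc, IsMonHom.one_hom]
      rw [← Hom.one_def, Defect.pair_comm, Defect.pair_one_right, Defect.pair_comm, Defect.pair_one_right,
        one_pow, div_one]
  have h2 := congrArg (op (lift b₁ g₁)) hc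
  simp only [c, map_div, map_pow, map_one, Defect.op_pair, lift_fst, lift_snd, lift_fst_assoc,
    lift_snd_assoc, div_eq_one] at h2
  exact h2

theorem pair_pow_base (l : PicLoc.PicSet A.left) (N : ℕ) {V : Over (Spec (CommRingCat.of k))} (x y : V ⟶ A) :
    Defect.pair (l ^ N) x y = Defect.pair l x y ^ N := by
  simp only [Defect.pair, map_pow, ← _root_.mul_pow, div_pow]

theorem euler_pullback_eq {g : ℕ} (hg : topologicalKrullDim A.left = (g : WithBot ℕ∞)) (h : A ⟶ A) [IsMonHom h]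
    (M : A.left.Modules) (hM : PicF.IsInvertible M) :
    letI : A.left.Over (Spec (CommRingCat.of k)) := ⟨A.hom⟩
    Curv2.euler k A.left ((Scheme.Modules.pullback h.left).obj M) = (dg h : ℤ) * Curv2.euler k A.left M := by
  letI : A.left.Over (Spec (CommRingCat.of k)) := ⟨A.hom⟩
  haveI : IsProper (A.left ↘ Spec (CommRingCat.of k)) := ‹IsProper A.hom›
  have : IsIntegral A.left := GeometricallyIntegral.isIntegral_of_subsingleton A.hom
  by_cases hf : IsFinite h.left
  · obtain ⟨_, _, _⟩ := finite_flat_surjective A h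
    exact AbSch51.IsogenyEuler.euler_pullback h (dg h) (finrank_eq_dg A h) M
      (Cube.Seesaw.isCoh_of_invertible hM)
  rw [dg_of_not_finite _ hf, Nat.cast_zero, zero_mul]
  have hinf : {p : 𝟙_ (Over (Spec (CommRingCat.of k))) ⟶ A | p ≫ h = 1}.Infinite :=
    fun hfin => hf (FiniteKernel.isFinite h hfin)
  refine Degenerate.euler_eq_zero (PicLoc.isInvertible_pullback h.left hM) (hinf.mono fun p hp => ?_)
  show MumfordSurj.phi _ p = 1
  have e1 : (𝟙 A * (toUnit A ≫ p)) ≫ h = h := by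
    rw [MonObj.mul_comp, Category.id_comp, Category.assoc, show p ≫ h = 1 from hp, MonObj.comp_one,
      _root_.mul_one]
  rw [MumfordSurj.phi, div_eq_one, PicLaw.cls_pullback _ hM]
  show op _ (op h _) = op h _
  rw [← PicLaw.Mumford.op_comp, e1]

theorem exists_pow_euler_ne_zero {g : ℕ} (hg : topologicalKrullDim A.left = (g : WithBot ℕ∞)) {M : A.left.Modules}
    (hM : CohB1.IsAmple M) :
    ∃ (N : ℕ) (L : A.left.Modules) (hL : PicF.IsInvertible L),
      PicGrp.cls L hL = PicGrp.cls M hM.1 ^ N ∧ @Curv2.euler k _ A.left ⟨A.hom⟩ L ≠ 0 := by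
  letI : A.left.Over (Spec (CommRingCat.of k)) := ⟨A.hom⟩
  haveI : IsProper (A.left ↘ Spec (CommRingCat.of k)) := ‹IsProper A.hom›
  haveI := EulerChar.isNoetherian k (X := A.left)
  have : IsIntegral A.left := GeometricallyIntegral.isIntegral_of_subsingleton A.hom
  by_contra! hall
  obtain ⟨M', hM', ⟨e⟩⟩ := PicLaw.exists_inverse hM.1
  have hO := PicLoc.isInvertible_structureModule A.left
  have hOc := Cube.Seesaw.isCoh_of_invertible hO
  have hle : ∀ F : A.left.Modules, topologicalKrullDim ↥(CohB1.support F) ≤ (g : WithBot ℕ∞) := fun F =>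
    EulerChar.dim_support_le hg.le
  have hzero : ∀ m, Curv2.euler k A.left (CohB1.tensorMod (CohB1.tensorPow M m) (Coh.structureModule A.left)) = 0 :=
    fun m => by
      obtain ⟨hP, eP⟩ := GrpScheme.PowPullback.cls_tensorPow hM.1 m
      refine hall m _ (PicLaw.isInvertible_tensor hP hO) ?_
      rw [PicLaw.cls_tensor hP hO, eP, PicLaw.cls_one, _root_.mul_one]
  have hkey := GrpScheme.AVDegree.leading_eq g 1 (fun i => Snapper.intE k (fun _ : Fin i => M') (Coh.structureModule A.left))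
    (fun _ => 0) fun m => by
      rw [← Snapper.euler_tensorPow_eq k hM.1 hM' e g m hOc (hle _)]
      simp [hzero]
  simp only [mul_zero] at hkey
  have hsupp : CohB1.support (Coh.structureModule A.left) = Set.univ := Set.eq_univ_of_forall fun x h => by
    obtain ⟨ee⟩ := EulerChar.stalk_ofRank (ProjTwist.isFinLocFreeOfRank_one hO) x
    exact not_subsingleton (Fin 1 → A.left.presheaf.stalk x) (ee.toEquiv.subsingleton)
  have hpos : 0 < Snapper.intE k (fun _ : Fin g => M') (Coh.structureModule A.left) :=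
    IntProd70.intE_pos k (L := fun _ : Fin g => M) (fun _ => hM) (fun _ => ⟨e⟩) hOc (by
      rw [hsupp, ← hg]
      exact IsHomeomorph.topologicalKrullDim_eq _ (Homeomorph.Set.univ A.left).isHomeomorph)
  omega

open Polynomial in
set_option maxHeartbeats 1000000 in
/-- Classes `pair l 1 f = B^a`, `pair l 1 f' = B^a'` force proportional traces. -/
theorem coeff_linear {r : ℕ} (hr : topologicalKrullDim A.left = (r : WithBot ℕ∞)) (hr1 : 1 ≤ r)
    {L : A.left.Modules} (hL : PicF.IsInvertible L) (hχ : @Curv2.euler k _ A.left ⟨A.hom⟩ L ≠ 0)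
    (f f' : A ⟶ A) [IsMonHom f] [IsMonHom f'] (B : PicLoc.PicSet A.left) (a a' : ℤ)
    (hf : Defect.pair (PicGrp.cls L hL) f (𝟙 A) = B ^ a) (hf' : Defect.pair (PicGrp.cls L hL) f' (𝟙 A) = B ^ a')
    (P R : ℚ[X]) (hP : ∀ t : ℤ, P.eval (t : ℚ) = (dg (f * 𝟙 A ^ t) : ℚ))
    (hR : ∀ t : ℤ, R.eval (t : ℚ) = (dg (f' * 𝟙 A ^ t) : ℚ)) :
    (a' : ℚ) * P.coeff (2 * r - 1) = (a : ℚ) * R.coeff (2 * r - 1) := by
  classical
  letI : A.left.Over (Spec (CommRingCat.of k)) := ⟨A.hom⟩
  haveI : IsProper (A.left ↘ Spec (CommRingCat.of k)) := ‹IsProper A.hom›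
  set l := PicGrp.cls L hL with hl
  set χ : ℚ := (Curv2.euler k A.left L : ℚ) with hχdef
  have hχ' : χ ≠ 0 := by rw [hχdef]; exact_mod_cast hχ
  let c : Fin 5 → PicLoc.PicSet A.left := ![op f l, op f' l, l, Defect.pair l (𝟙 A) (𝟙 A), B]
  obtain ⟨G, hG, hev⟩ := DegPoly.exists_euler_poly (k := k) hr.le c
  let ψ : ℚ → ℚ → ℚ → Fin 5 → ℚ[X] := fun u₀ u₁ b =>
    ![C u₀, C u₁, X, C (1 / 2 : ℚ) * (X * (X - 1)), C b * X]
  let Φ : ℚ → ℚ → ℚ → ℚ[X] := fun u₀ u₁ b => MvPolynomial.aeval (ψ u₀ u₁ b) G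
  -- values
  have hval : ∀ (g : A ⟶ A) [IsMonHom g] (u₀ u₁ : ℤ) (b t : ℤ),
      op g l = op f l ^ u₀ * op f' l ^ u₁ → Defect.pair l g (𝟙 A) = B ^ b →
      (Φ u₀ u₁ b).eval (t : ℚ) = (dg (g * 𝟙 A ^ t) : ℚ) * χ := by
    intro g _ u₀ u₁ b t hu hb
    have := GrpScheme.EtaleEndo.isMonHom_zpow A t
    have : IsMonHom (g * 𝟙 A ^ t) := isMonHom_mul _ _
    have h1 := euler_pullback_eq A hr (g * 𝟙 A ^ t) L hL
    have hcls : PicGrp.cls _ (PicLoc.isInvertible_pullback (g * 𝟙 A ^ t).left hL) =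
        ∏ i, c i ^ (![u₀, u₁, t, DegPoly.ch2 t, b * t] : Fin 5 → ℤ) i := by
      rw [PicLaw.cls_pullback _ hL]
      show op (g * 𝟙 A ^ t) l = _
      rw [DegPoly.op_mul_eq, DegPoly.op_zpow_eq, hu, show op (𝟙 A) l = l from PicLaw.pl_id _,
        show Defect.pair l g (𝟙 A ^ t) = DegPoly.pairHom l g (𝟙 A ^ t) from rfl, map_zpow,
        show DegPoly.pairHom l g (𝟙 A) = B ^ b from hb, ← _root_.zpow_mul, Fin.prod_univ_five]
      simp only [c, Matrix.cons_val]
      ac_rfl
    rw [← Int.cast_natCast (dg _), hχdef, ← Int.cast_mul, ← h1, hev _ _ _ hcls]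
    show (MvPolynomial.aeval (ψ (u₀ : ℚ) u₁ b) G).eval (t : ℚ) = _
    rw [← Polynomial.coe_aeval_eq_eval, MvPolynomial.comp_aeval_apply, MvPolynomial.aeval_eq_eval]
    refine congrArg (fun z => MvPolynomial.eval z G) (funext fun i => ?_)
    fin_cases i <;> simp [ψ, DegPoly.ch2_cast] <;> ring
  -- the coefficient of `t^(2r-1)` is affine in `b` only
  have hmono : ∀ d ∈ G.support, ∀ u₀ u₁ b : ℚ,
      (MvPolynomial.aeval (ψ u₀ u₁ b) (MvPolynomial.monomial d (G.coeff d))).coeff (2 * r - 1) =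
        (MvPolynomial.aeval (ψ 0 0 0) (MvPolynomial.monomial d (G.coeff d))).coeff (2 * r - 1) +
        b * ((MvPolynomial.aeval (ψ 0 0 1) (MvPolynomial.monomial d (G.coeff d))).coeff (2 * r - 1) -
          (MvPolynomial.aeval (ψ 0 0 0) (MvPolynomial.monomial d (G.coeff d))).coeff (2 * r - 1)) := by
    intro d hd u₀ u₁ b
    have hle := (MvPolynomial.le_totalDegree hd).trans hG
    rw [Finsupp.sum_fintype _ _ (by simp), Fin.sum_univ_five] at hle
    let q : ℚ[X] := X ^ (d 2 + d 4) * (C (1 / 2 : ℚ) * (X * (X - 1))) ^ d 3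
    have key : ∀ v₀ v₁ w : ℚ, MvPolynomial.aeval (ψ v₀ v₁ w) (MvPolynomial.monomial d (G.coeff d)) =
        C (G.coeff d * v₀ ^ d 0 * v₁ ^ d 1 * w ^ d 4) * q := fun v₀ v₁ w => by
      rw [MvPolynomial.aeval_monomial, Finsupp.prod_fintype _ _ (by simp), Fin.prod_univ_five]
      simp [ψ, q, _root_.mul_pow, pow_add]
      ring
    rw [key, key, key, coeff_C_mul, coeff_C_mul, coeff_C_mul]
    have hq : q.natDegree ≤ d 2 + d 4 + 2 * d 3 := by
      refine natDegree_mul_le.trans (add_le_add (natDegree_X_pow_le _) (natDegree_pow_le.trans ?_))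
      refine le_trans (Nat.mul_le_mul_left _ (?_ : _ ≤ 2)) (Nat.mul_comm _ _).le
      refine (natDegree_C_mul_le _ _).trans (natDegree_mul_le.trans ?_)
      rw [natDegree_X, show (X - 1 : ℚ[X]) = X - C 1 by rw [map_one], natDegree_X_sub_C]
    by_cases hc : d 2 + d 4 + 2 * d 3 < 2 * r - 1
    · rw [coeff_eq_zero_of_natDegree_lt (lt_of_le_of_lt hq hc)]
      ring
    rw [show d 0 = 0 by omega, show d 1 = 0 by omega]
    obtain h4 | h4 : d 4 = 0 ∨ d 4 = 1 := by omega
    · rw [h4]; ring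
    · rw [h4]; ring
  have haff : ∀ u₀ u₁ b : ℚ, (Φ u₀ u₁ b).coeff (2 * r - 1) = (Φ 0 0 0).coeff (2 * r - 1) +
      b * ((Φ 0 0 1).coeff (2 * r - 1) - (Φ 0 0 0).coeff (2 * r - 1)) := by
    intro u₀ u₁ b
    have e : ∀ v₀ v₁ w : ℚ, (Φ v₀ v₁ w).coeff (2 * r - 1) = ∑ d ∈ G.support,
        (MvPolynomial.aeval (ψ v₀ v₁ w) (MvPolynomial.monomial d (G.coeff d))).coeff (2 * r - 1) := fun v₀ v₁ w => by
      show (MvPolynomial.aeval (ψ v₀ v₁ w) G).coeff _ = _
      conv_lhs => rw [G.as_sum, map_sum, finsetSum_coeff]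
    rw [e, e, e, ← Finset.sum_sub_distrib, Finset.mul_sum, ← Finset.sum_add_distrib]
    exact Finset.sum_congr rfl fun d hd => hmono d hd u₀ u₁ b
  have hinj : (Set.range ((↑) : ℤ → ℚ)).Infinite := Set.infinite_range_of_injective Int.cast_injective
  have h0 : Φ 0 0 0 = C χ * X ^ (2 * r) := by
    refine eq_of_infinite_eval_eq _ _ (((Set.finite_singleton (0 : ℤ)).infinite_compl.image
      (Int.cast_injective (α := ℚ)).injOn).mono ?_)
    rintro _ ⟨t, ht, rfl⟩
    have ht' : t ≠ 0 := ht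
    show (Φ 0 0 0).eval (t : ℚ) = (C χ * X ^ (2 * r)).eval (t : ℚ)
    have : IsMonHom (1 : A ⟶ A) := by rw [Hom.one_def]; infer_instance
    have h := hval (1 : A ⟶ A) 0 0 0 t (by rw [CubeCons.op_one, zpow_zero, zpow_zero, _root_.mul_one])
      (by rw [Defect.pair_comm, Defect.pair_one_right, zpow_zero])
    simp only [Int.cast_zero] at h
    have := (AbSch51.MulDeg.isFinite_flat_surjective A ht').1
    rw [h, _root_.one_mul, dg_of_finite, AbSch51.MulDeg.finrank_eq A r hr ht', Nat.cast_pow, Nat.cast_natAbs,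
      eval_mul, eval_C, eval_pow, eval_X, ← Int.cast_pow, ← Int.cast_pow, (even_two_mul r).pow_abs, mul_comm]
  have hPeq : Φ 1 0 a = C χ * P := eq_of_infinite_eval_eq _ _ (hinj.mono (by
    rintro _ ⟨t, rfl⟩
    have h := hval f 1 0 a t (by rw [zpow_one, zpow_zero, _root_.mul_one]) hf
    simp only [Int.cast_one, Int.cast_zero] at h
    show (Φ 1 0 a).eval (t : ℚ) = (C χ * P).eval (t : ℚ)
    rw [h, eval_mul, eval_C, hP, mul_comm]))
  have hReq : Φ 0 1 a' = C χ * R := eq_of_infinite_eval_eq _ _ (hinj.mono (by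
    rintro _ ⟨t, rfl⟩
    have h := hval f' 0 1 a' t (by rw [zpow_one, zpow_zero, _root_.one_mul]) hf'
    simp only [Int.cast_one, Int.cast_zero] at h
    show (Φ 0 1 a').eval (t : ℚ) = (C χ * R).eval (t : ℚ)
    rw [h, eval_mul, eval_C, hR, mul_comm]))
  have hz : (Φ 0 0 0).coeff (2 * r - 1) = 0 := by
    rw [h0, coeff_C_mul_X_pow, if_neg (by omega)]
  have eP := haff 1 0 (a : ℚ)
  have eR := haff 0 1 (a' : ℚ)
  rw [hPeq, coeff_C_mul, hz] at eP
  rw [hReq, coeff_C_mul, hz] at eR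
  refine mul_left_cancel₀ hχ' ?_
  linear_combination (a' : ℚ) * eP - (a : ℚ) * eR

/-- The relation hypothesis on modules, in classes. -/
theorem rel_of_iso {L : A.left.Modules} (hL : PicF.IsInvertible L) (α ρ : EndAV.End A) (n : ℕ)
    (hρ : ∀ x : (𝟙_ (Over (Spec (CommRingCat.of k))) ⟶ A), Nonempty (CohB1.tensorMod ((Scheme.Modules.pullback ((𝟙 A * (toUnit A ≫ x ≫ EndAV.End.toHom ρ))).left).obj (L)) ((Scheme.Modules.pullback (EndAV.End.toHom α).left).obj (CohB1.tensorPow L n)) ≅ CohB1.tensorMod (L) ((Scheme.Modules.pullback (EndAV.End.toHom α).left).obj ((Scheme.Modules.pullback ((𝟙 A * (toUnit A ≫ x))).left).obj (CohB1.tensorPow L n)))))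
    (x : 𝟙_ (Over (Spec (CommRingCat.of k))) ⟶ A) :
    op (tr A (x ≫ EndAV.End.toHom ρ)) (PicGrp.cls L hL) * op (EndAV.End.toHom α) (PicGrp.cls L hL ^ n) =
      PicGrp.cls L hL * op (EndAV.End.toHom α) (op (tr A x) (PicGrp.cls L hL ^ n)) := by
  obtain ⟨hP, eP⟩ := GrpScheme.PowPullback.cls_tensorPow hL n
  have h1 := PicLoc.isInvertible_pullback (tr A (x ≫ EndAV.End.toHom ρ)).left hL
  have h2 := PicLoc.isInvertible_pullback (EndAV.End.toHom α).left hP
  have h3 := PicLoc.isInvertible_pullback (EndAV.End.toHom α).left (PicLoc.isInvertible_pullback (tr A x).left hP)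
  have h := (PicLaw.iso_iff (PicLaw.isInvertible_tensor h1 h2) (PicLaw.isInvertible_tensor hL h3)).mp (hρ x)
  rw [PicLaw.cls_tensor h1 h2, PicLaw.cls_tensor hL h3, PicLaw.cls_pullback _ hL, PicLaw.cls_pullback _ hP,
    PicLaw.cls_pullback _ (PicLoc.isInvertible_pullback (tr A x).left hP), PicLaw.cls_pullback _ hP, eP] at h
  exact h

theorem dg_eq_of_spec (ψ : EndAV.End A) (q : ℚ)
    (h : (IsFinite (EndAV.End.toHom ψ).left → ∀ a : A.left,
      (Scheme.Hom.finrank (EndAV.End.toHom ψ).left a : ℚ) = q) ∧ (¬ IsFinite (EndAV.End.toHom ψ).left → q = 0)) :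
    q = (dg (EndAV.End.toHom ψ) : ℚ) := by
  by_cases hf : IsFinite (EndAV.End.toHom ψ).left
  · rw [← h.1 hf (η[A].left (IsLocalRing.closedPoint k)), dg_of_finite]
  · rw [h.2 hf, dg_of_not_finite _ hf, Nat.cast_zero]

end Groth.Agent.AbVarTrace.TraceLin
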